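import Groth.Agent.L23.QuotGM.Coact
import Groth.Agent.L23.CohAff.Descent
import Groth.Agent.L23.CohAff.UnitGlobal

/-!
# Sections over the spectrum of invariants
-/

universe u

open CategoryTheory CategoryTheory.Limits MonoidalCategory CartesianMonoidalCategory AlgebraicGeometry Opposite
open scoped TensorProduct

set_option backward.isDefEq.respectTransparency false
set_option backward.isDefEq.respectTransparency.types false
set_option linter.style.haveILetI false
set_option linter.unusedSectionVars false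
set_option linter.unusedVariables false
set_option synthInstance.maxHeartbeats 400000
set_option maxHeartbeats 1000000

noncomputable section

namespace Groth.L23.QuotGM

open StMod Groth.L23.RelGen Groth.L23.CohAff Groth.L11.ThetaAff CoactBr AlgSp

attribute [local instance] hasIsos_fppf

variable (R A B : Type u) [CommRing R] [CommRing A] [HopfAlgebra R A] [CommRing B] [Algebra R B]
  [HopfRep.Comod R A B] [GLin.IsCoactAlg R A B]

/-- The spectrum of invariants. -/
abbrev Ysch : Over (Spec (CommRingCat.of R)) := sp R ↥(GLin.invariants R A B)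

/-- The spectrum of invariants, as a category. -/
abbrev YS : AlgSt.Cat (Spec (CommRingCat.of R)) := AlgSt.ofSch (Ysch R A B)

/-- The compatibility of a functor to the spectrum of invariants with the quotient map. -/
def IsRho (ρ : QS R A B ⥤ᵇ YS R A B) : Prop :=
  BasedFunctor.comp (AlgSt.quotMap Scheme.fppfPrecoverage (sp R A) (action R A B)) ρ =
    AlgSt.ofSpMap ((AlgSp.yon (Spec (CommRingCat.of R))).map (pt (GLin.invariants R A B).val))

/-- The final object. -/
abbrev eta0 : (YS R A B).obj := ⟨Ysch R A B, ⟨𝟙 _⟩⟩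

variable {R A B}

/-- The arrow to the final object. -/
def toEta (ξ : (YS R A B).obj) : ξ ⟶ eta0 R A B :=
  ⟨ξ.sec.down, congrArg ULift.up (show ξ.sec.down ≫ 𝟙 (Ysch R A B) = ξ.sec.down from Category.comp_id _)⟩

theorem toEta_unique {ξ : (YS R A B).obj} (α β : ξ ⟶ eta0 R A B) : α = β := by
  obtain ⟨g, hg⟩ := α
  obtain ⟨g', hg'⟩ := β
  have h₁ : g ≫ 𝟙 _ = ξ.sec.down := congrArg ULift.down hg
  have h₂ : g' ≫ 𝟙 _ = ξ.sec.down := congrArg ULift.down hg'
  rw [Category.comp_id] at h₁ h₂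
  subst h₁ h₂
  rfl

variable (ρ : QS R A B ⥤ᵇ YS R A B)

/-- An object over the final object. -/
abbrev ovEta (z : (QS R A B).obj) : (fibCat ρ (eta0 R A B)).obj := CostructuredArrow.mk (toEta (ρ.obj z))

/-- A morphism over the final object. -/
abbrev ovHom {z : (QS R A B).obj} {ξ : (fibCat ρ (eta0 R A B)).obj} (k : z ⟶ ξ.left) : ovEta ρ z ⟶ ξ :=
  CostructuredArrow.homMk k (toEta_unique _ _)

theorem baseOver_eta {ρ : QS R A B ⥤ᵇ YS R A B} (hρ : IsRho R A B ρ) (α : ρ.obj (x0 R A B) ⟶ eta0 R A B) :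
    baseOver ρ (x0 R A B) α = pt (GLin.invariants R A B).val := by
  let a : (AlgSt.ofSch (sp R B)).obj := ⟨sp R B, ⟨𝟙 _⟩⟩
  have h : ρ.obj (x0 R A B) = ⟨sp R B, ⟨𝟙 _ ≫ pt (GLin.invariants R A B).val⟩⟩ :=
    congrArg (fun F : AlgSt.ofSch (sp R B) ⥤ᵇ YS R A B => F.obj a) hρ
  have key : ∀ (η' : (YS R A B).obj) (g : sp R B ⟶ Ysch R A B) (_ : η' = ⟨sp R B, ⟨g⟩⟩)
      (w : (YS R A B).p.obj η' = sp R B) (α : η' ⟶ eta0 R A B),
      eqToHom w.symm ≫ (YS R A B).p.map α = g := by
    rintro _ g rfl w α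
    obtain ⟨k, hk⟩ := α
    have h₁ : k ≫ 𝟙 _ = g := congrArg ULift.down hk
    rw [Category.comp_id] at h₁
    exact (Category.id_comp k).trans h₁
  exact (key _ _ h (ρ.w_obj (x0 R A B)) α).trans (Category.id_comp _)

variable [Module.Flat R A] [Algebra.FinitePresentation R A]

/-- An atlas over the final object. -/
theorem exists_atlas_eta : ∃ (At : Atlas (fibCat ρ (eta0 R A B))),
    (At.x₀ = ovEta ρ (x0 R A B)) ∧ ∀ (F : Mod (QS R A B)) (c : Sec F (x0 R A B) →ₗ[R] Sec F (x0 R A B) ⊗[R] A),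
      F.IsCartesian → F.IsLocQCoh → IsCoact F c →
      Function.Injective (fun s : Mod.RelSect ρ F (eta0 R A B) => val s (ovEta ρ (x0 R A B))) ∧
        ∀ m, (∃ s : Mod.RelSect ρ F (eta0 R A B), val s (ovEta ρ (x0 R A B)) = m) ↔ c m = m ⊗ₜ[R] (1 : A) := by
  obtain ⟨v, p, q, e, hv, hx, hk, huniv⟩ := exists_pairObj (R := R) (A := A) (B := B) (B ⊗[R] A)
    Algebra.TensorProduct.includeLeft Algebra.TensorProduct.includeRight
  let At : Atlas (fibCat ρ (eta0 R A B)) :=
    { x₀ := ovEta ρ (x0 R A B)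
      aff₀ := aff_x0 R A B
      loc := fun ξ hξ => by
        obtain ⟨𝒰, hfin, hl⟩ := exists_loc ξ.left hξ
        exact ⟨⟨𝒰.ι, fun l => ovEta ρ (𝒰.obj l), fun l => ovHom ρ (𝒰.map l), 𝒰.affine, 𝒰.cov⟩, hfin,
          fun l => ⟨ovHom ρ (hl l).some⟩⟩
      n := 1
      w := fun _ => ovEta ρ v
      affw := fun _ => hv
      a := fun _ => ovHom ρ p
      b := fun _ => ovHom ρ q
      pairs := fun z hz p' q' => by
        obtain ⟨t, htp, htq, -⟩ := huniv p'.left q'.left
          (Algebra.TensorProduct.lift (cmB q'.left) (cmK p'.left q'.left) fun _ _ => .all _ _)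
          (Algebra.TensorProduct.lift_comp_includeLeft _ _ _) (Algebra.TensorProduct.lift_comp_includeRight' _ _ _)
        refine ⟨⟨PUnit, fun _ => z, fun _ => 𝟙 z, fun _ => hz, ⟨fun _ => ?_, fun y => ⟨PUnit.unit, y, ?_⟩⟩⟩,
          fun l => ⟨0, CostructuredArrow.homMk t (toEta_unique _ _), ?_, ?_⟩⟩
        · rw [bmap_id]; infer_instance
        · rw [bmap_id]; rfl
        · exact CostructuredArrow.hom_ext _ _ (htp.trans (Category.id_comp _).symm)
        · exact CostructuredArrow.hom_ext _ _ (htq.trans (Category.id_comp _).symm) }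
  refine ⟨At, rfl, fun F c hF hq hc => ⟨atChart_injective (A := At) isFibGrpd_QS hF hq, fun m => ?_⟩⟩
  have hb := kap_sec_bijective hF hq hv q (cmK p q) (lift_incl_bijective e hx hk)
  have hiff : F.mapTop p m = F.mapTop q m ↔ c m = m ⊗ₜ[R] (1 : A) := by
    rw [hc v hv p q m, mv_apply]
    have h1 : kap (cmK p q) (resR F q) (m ⊗ₜ[R] (1 : A)) = F.mapTop q m := by
      rw [kap_tmul, map_one, one_smul]
      rfl
    rw [← h1]
    exact ⟨fun h => hb.1 h, fun h => by rw [h]⟩
  rw [← hiff]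
  refine ⟨?_, fun h => exists_relSect (A := At) isFibGrpd_QS hF hq (m := m) fun _ => h⟩
  rintro ⟨s, rfl⟩
  exact atChart_agree (A := At) s 0

/-- Surjectivity over the final object is surjectivity on fixed vectors. -/
theorem surjective_eta_iff {F G : Mod (QS R A B)} (hF : F.IsCartesian) (hFq : F.IsLocQCoh) (hG : G.IsCartesian)
    (hGq : G.IsLocQCoh) {c : Sec F (x0 R A B) →ₗ[R] Sec F (x0 R A B) ⊗[R] A}
    {d : Sec G (x0 R A B) →ₗ[R] Sec G (x0 R A B) ⊗[R] A} (hc : IsCoact F c) (hd : IsCoact G d) (u : F ⟶ G) :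
    Function.Surjective (Mod.relSectMap ρ u (eta0 R A B)) ↔
      ∀ n : Sec G (x0 R A B), d n = n ⊗ₜ[R] (1 : A) →
        ∃ m : Sec F (x0 R A B), c m = m ⊗ₜ[R] (1 : A) ∧ (u.app (x0 R A B)).app ⊤ m = n := by
  obtain ⟨At, -, hAt⟩ := exists_atlas_eta ρ
  obtain ⟨-, hF₂⟩ := hAt F c hF hFq hc
  obtain ⟨hG₁, hG₂⟩ := hAt G d hG hGq hd
  refine ⟨fun h n hn => ?_, fun h t => ?_⟩
  · obtain ⟨t, ht⟩ := (hG₂ n).2 hn
    obtain ⟨s, hs⟩ := h t
    refine ⟨val s (ovEta ρ (x0 R A B)), (hF₂ _).1 ⟨s, rfl⟩, ?_⟩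
    rw [← ht, ← hs]
    rfl
  · obtain ⟨m, hm, hmn⟩ := h _ ((hG₂ (val t (ovEta ρ (x0 R A B)))).1 ⟨t, rfl⟩)
    obtain ⟨s, hs⟩ := (hF₂ m).2 hm
    refine ⟨s, hG₁ ?_⟩
    show (u.app (x0 R A B)).app ⊤ (val s (ovEta ρ (x0 R A B))) = _
    rw [hs, hmn]

/-- The unit is bijective over the final object. -/
theorem unit_bijective_eta (hρ : IsRho R A B ρ) : Function.Bijective (unitSect ρ (eta0 R A B)) := by
  obtain ⟨c, hc⟩ := exists_isCoact (R := R) (A := A) (B := B) (F := O (QS R A B)) isCartesian_O isLocQCoh_O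
  obtain ⟨At, -, hAt⟩ := exists_atlas_eta ρ
  obtain ⟨hinj, hfix⟩ := hAt (O (QS R A B)) c isCartesian_O isLocQCoh_O hc
  let eC := specEquiv (R := R) ↥(GLin.invariants R A B)
  have hval : ∀ r : ↥(GLin.invariants R A B),
      val (unitSect ρ (eta0 R A B) (eC r)) (ovEta ρ (x0 R A B)) = e0 R A B r.1 := by
    intro r
    show (baseOver ρ (x0 R A B) (toEta _)).left.appTop (eC r) = _
    rw [baseOver_eta hρ]
    show pull (pt (GLin.invariants R A B).val) (cm (𝟙 (Ysch R A B)) r) = _
    rw [← AlgHom.comp_apply, ← cm_comp]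
    refine (congrArg (fun g => cm g r) (Category.comp_id (pt (GLin.invariants R A B).val))).trans ?_
    rw [cm_pt]
    rfl
  refine ⟨fun a a' h => ?_, fun t => ?_⟩
  · obtain ⟨r, rfl⟩ := eC.surjective a
    obtain ⟨r', rfl⟩ := eC.surjective a'
    have h' := congrArg (fun s => val s (ovEta ρ (x0 R A B))) h
    rw [hval, hval] at h'
    rw [Subtype.ext ((e0 R A B).injective h')]
  · obtain ⟨v, p, q, e, hv, hx, hk, -⟩ := exists_pairObj (R := R) (A := A) (B := B) (B ⊗[R] A)
      Algebra.TensorProduct.includeLeft Algebra.TensorProduct.includeRight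
    obtain ⟨b, hb⟩ := (e0 R A B).surjective (val t (ovEta ρ (x0 R A B)))
    have hfixed := (hfix (e0 R A B b)).1 ⟨t, hb.symm⟩
    have h1 : cmB p b = cmB q b := by
      rw [cmB_apply, cmB_apply]
      show (O (QS R A B)).mapTop p (e0 R A B b) = (O (QS R A B)).mapTop q (e0 R A B b)
      rw [hc v hv p q]
      exact mv_fixed c _ (resR (O (QS R A B)) q) hfixed
    have h2 : Algebra.TensorProduct.lift (cmB q) (cmK p q) (fun _ _ => .all _ _) = e.toAlgHom := by
      rw [hx, hk]
      ext <;> simp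
    rw [cmB_eq p q, h2, hx] at h1
    have hb' : b ∈ GLin.invariants R A B := (GLin.mem_invariants_iff R A B b).2 (e.injective h1)
    exact ⟨eC ⟨b, hb'⟩, hinj ((hval ⟨b, hb'⟩).trans hb)⟩

theorem exists_flat_to_eta (E : EtOver ((yon (Spec (CommRingCat.of R))).obj (Ysch R A B))) :
    ∃ β : etaOf E ⟶ eta0 R A B, Flat (bmap (YS R A B) β) := by
  obtain ⟨g, hg⟩ := (yon (Spec (CommRingCat.of R))).map_surjective E.obj.hom
  haveI : Etale g.left := (repWith_yon_map_iff _ g).1 (by rw [hg]; exact E.property)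
  refine ⟨⟨g, ?_⟩, show Flat g.left from inferInstance⟩
  show _ = (AlgSp.J _).uliftYonedaEquiv E.obj.hom
  rw [← hg, ← Category.comp_id ((yon (Spec (CommRingCat.of R))).map g)]
  exact GrothendieckTopology.uliftYonedaEquiv_naturality (AlgSp.J _) (𝟙 _) g

theorem isFibGrpd_YS : FibCat.IsFibGrpd (YS R A B).p := Groth.L24.St.ofSp_isFibGrpd _

/-- Surjectivity at all affine etale objects from the final object. -/
theorem surjective_of_eta {F G : Mod (QS R A B)} (hG : G.IsCartesian) (hGq : G.IsLocQCoh) (u : F ⟶ G)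
    (E : EtOver ((yon (Spec (CommRingCat.of R))).obj (Ysch R A B))) (hE : IsAffine E.obj.left.left)
    (h : Function.Surjective (Mod.relSectMap ρ u (eta0 R A B))) :
    Function.Surjective (Mod.relSectMap ρ u (etaOf E)) := by
  obtain ⟨β, hβ⟩ := exists_flat_to_eta E
  haveI := hβ
  haveI : IsAffine (sch (YS R A B) (etaOf E)) := hE
  haveI : IsAffine (sch (YS R A B) (eta0 R A B)) := isAffine_Spec _
  obtain ⟨At, -, -⟩ := exists_atlas_eta ρ
  exact surjective_of_flat isFibGrpd_QS isFibGrpd_YS hG hGq u β At h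

/-- Bijectivity of the unit at all affine etale objects. -/
theorem unit_bijective_etale (hρ : IsRho R A B ρ) (E : EtOver ((yon (Spec (CommRingCat.of R))).obj (Ysch R A B)))
    (hE : IsAffine E.obj.left.left) : Function.Bijective (unitSect ρ (etaOf E)) := by
  obtain ⟨β, hβ⟩ := exists_flat_to_eta E
  haveI := hβ
  haveI : IsAffine (sch (YS R A B) (etaOf E)) := hE
  haveI : IsAffine (sch (YS R A B) (eta0 R A B)) := isAffine_Spec _
  obtain ⟨At, -, -⟩ := exists_atlas_eta ρ
  letI := (fnMap β).toAlgebra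
  obtain ⟨EO, hEO⟩ := exists_flatBC isFibGrpd_QS isFibGrpd_YS isCartesian_O isLocQCoh_O β At
  let u₀ := LinearEquiv.ofBijective (unitSect ρ (eta0 R A B)) (unit_bijective_eta ρ hρ)
  let Φ : Fn (etaOf E) ≃+ Mod.RelSect ρ (O (QS R A B)) (etaOf E) :=
    ((TensorProduct.rid (Fn (eta0 R A B)) (Fn (etaOf E))).symm.trans (u₀.lTensor (Fn (etaOf E)))).toAddEquiv.trans EO
  have key : ⇑(unitSect ρ (etaOf E)) = Φ := funext fun r => by
    show _ = EO ((unitSect ρ (eta0 R A B)).lTensor (Fn (etaOf E)) (r ⊗ₜ (1 : Fn (eta0 R A B))))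
    rw [LinearMap.lTensor_tmul, hEO, relRes_unitSect, map_one, ← map_smul, smul_eq_mul, mul_one]
  rw [key]
  exact Φ.bijective

/-- The unit is an isomorphism. -/
theorem unitIsIso_rho (hρ : IsRho R A B ρ) : StMod.UnitIsIso ρ :=
  unitIsIso_of_affine isFibGrpd_QS ρ (unit_bijective_etale ρ hρ)

/-- Cohomological affineness from surjectivity on fixed vectors. -/
theorem isCohAffine_of_fixed (hfix : ∀ (M N : Type u) [AddCommGroup M] [Module R M] [Module B M] [IsScalarTower R B M]
      [HopfRep.Comod R A M] [TameAct.IsHopfMod R A B M]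
      [AddCommGroup N] [Module R N] [Module B N] [IsScalarTower R B N]
      [HopfRep.Comod R A N] [TameAct.IsHopfMod R A B N] (f : M →ₗ[B] N),
      Hoch.IsComodHom A (f.restrictScalars R) → Function.Surjective f →
        ∀ n ∈ HopfRep.fixedPts R A N, ∃ m ∈ HopfRep.fixedPts R A M, f m = n) :
    StMod.IsCohAffine ρ := by
  intro F G u hu E hE
  obtain ⟨c, hc⟩ := exists_isCoact (F := F.obj) F.property.1 F.property.2
  obtain ⟨d, hd⟩ := exists_isCoact (F := G.obj) G.property.1 G.property.2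
  refine surjective_of_eta ρ G.property.1 G.property.2 u.hom E hE
    ((surjective_eta_iff ρ F.property.1 F.property.2 G.property.1 G.property.2 hc hd u.hom).2 fun n hn => ?_)
  letI := hc.comod F.property.1 F.property.2
  letI := hd.comod G.property.1 G.property.2
  haveI := hc.isHopfMod F.property.1 F.property.2
  haveI := hd.isHopfMod G.property.1 G.property.2
  let f : M0 F.obj →ₗ[B] M0 G.obj :=
    { toFun := fun m => (u.hom.app (x0 R A B)).app ⊤ m
      map_add' := fun a b => map_add ((u.hom.app (x0 R A B)).app ⊤).hom a b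
      map_smul' := fun b m => (u.hom.app (x0 R A B)).app_smul (e0 R A B b) m }
  obtain ⟨m, hm, hmn⟩ := hfix (M0 F.obj) (M0 G.obj) f
    (isComodHom_app G.property.1 G.property.2 u.hom hc hd (f.restrictScalars R) fun _ => rfl)
    (hu (x0 R A B) (aff_x0 R A B)) n hn
  exact ⟨m, hm, hmn⟩

end Groth.L23.QuotGM
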