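import Groth.Agent.L11.ThetaAff.Quot
import Groth.Agent.L09.Artin.Atlas.Quot
import Groth.Agent.L23.RelGen.Glue

/-!
# The difference of two morphisms to the trivial torsor of the quotient stack
-/

universe u

open CategoryTheory CategoryTheory.Limits MonoidalCategory CartesianMonoidalCategory MonObj GrpObj AlgebraicGeometry

set_option backward.isDefEq.respectTransparency false
set_option backward.isDefEq.respectTransparency.types false
set_option linter.style.haveILetI false
set_option linter.unusedSectionVars false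
set_option linter.unusedVariables false
set_option synthInstance.maxHeartbeats 400000
set_option maxHeartbeats 1000000

noncomputable section

namespace Groth.L23.QuotGM

open Groth.L11.ThetaAff

attribute [local instance] hasIsos_fppf

variable {S : Scheme.{u}} {G : Over S} [GrpObj G] {X : Over S} (aX : AlgGrp.Action G X)

/-- The chart: the trivial torsor on `X` with the identity point. -/
abbrev chart : AlgSt.QuotObj Scheme.fppfPrecoverage G aX := triv aX X (𝟙 X)

variable {aX} {z z' : AlgSt.QuotObj Scheme.fppfPrecoverage G aX}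

/-- The section of a torsor given by a morphism to the chart. -/
def sect (p : z ⟶ chart aX) : z.base ⟶ z.P :=
  p.cart.lift (lift (1 : z.base ⟶ G) p.base) (𝟙 _)
    (show lift (1 : z.base ⟶ G) p.base ≫ snd G X = 𝟙 _ ≫ p.base by rw [lift_snd, Category.id_comp])

theorem sect_π (p : z ⟶ chart aX) : sect p ≫ z.π = 𝟙 _ := p.cart.lift_snd _ _ _

theorem sect_top (p : z ⟶ chart aX) : sect p ≫ p.top = lift (1 : z.base ⟶ G) p.base := p.cart.lift_fst _ _ _

/-- The group element carrying one point of the chart to the other. -/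
def dif (p q : z ⟶ chart aX) : z.base ⟶ G := ((sect p ≫ q.top) ≫ fst G X)⁻¹

theorem sect_top_dif (p q : z ⟶ chart aX) : sect p ≫ q.top = lift (dif p q)⁻¹ q.base := by
  refine @CartesianMonoidalCategory.hom_ext (Over S) _ _ z.base G X _ _ ?_ ?_
  · exact Eq.trans (by rw [dif, _root_.inv_inv]) (lift_fst (dif p q)⁻¹ q.base).symm
  · refine Eq.trans ?_ (lift_snd (dif p q)⁻¹ q.base).symm
    rw [ Category.assoc, show q.top ≫ snd G X = z.π ≫ q.base from q.cart.w, ← Category.assoc, sect_π,
      Category.id_comp]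

theorem dif_self (p : z ⟶ chart aX) : dif p p = 1 := by
  refine (congrArg (fun k => k⁻¹) ?_).trans inv_one
  rw [sect_top]
  exact lift_fst (1 : z.base ⟶ G) p.base

theorem φ_chart : (chart aX).φ = aX.act :=
  (congrArg (fun k => k ≫ aX.act) (MonoidalCategory.whiskerLeft_id G X)).trans (Category.id_comp _)

theorem lift_inv_act {T : Over S} (k : T ⟶ G) {x y : T ⟶ X} (e : lift k⁻¹ y ≫ aX.act = x) :
    y = lift k x ≫ aX.act := by
  rw [← e, ← act_mul_pt, mul_inv_cancel, act_one_pt]

/-- The two points differ by the difference. -/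
theorem dif_base (p q : z ⟶ chart aX) : q.base = lift (dif p q) p.base ≫ aX.act := by
  refine lift_inv_act _ ?_
  have h : sect p ≫ q.top ≫ (chart aX).φ = sect p ≫ p.top ≫ (chart aX).φ := by rw [q.wφ, p.wφ]
  rw [φ_chart, ← Category.assoc, ← Category.assoc, sect_top, sect_top_dif, act_one_pt] at h
  exact h

/-- A morphism to the chart is determined by the difference to another one. -/
theorem ext_dif (p : z ⟶ chart aX) {q q' : z ⟶ chart aX} (e : dif p q = dif p q') : q = q' := by
  have hb : q.base = q'.base := by rw [dif_base p q, dif_base p q', e]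
  refine AlgSt.QuotObj.hom_ext hb ?_
  exact eq_of_section aX z (sect p) (sect_π p) (aY := AlgSt.leftMul G X) q.top q'.top q.eqv q'.eqv
    (by rw [sect_top_dif, sect_top_dif, e, hb])

theorem sect_trans (p q : z ⟶ chart aX) :
    sect p = lift (dif p q)⁻¹ (sect q) ≫ z.act.act := by
  refine q.cart.hom_ext ?_ ?_
  · rw [sect_top_dif, Category.assoc, q.eqv, lift_whiskerLeft_assoc, sect_top]
    show _ = lift (dif p q)⁻¹ (lift (1 : z.base ⟶ G) q.base) ≫ (AlgSt.leftMul G X).act
    exact ((leftMul_pt (dif p q)⁻¹ (1 : z.base ⟶ G) q.base).trans (by rw [_root_.mul_one])).symm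
  · rw [sect_π, Category.assoc, z.cart.w, lift_snd_assoc, sect_π]

theorem dif_comp (p q r : z ⟶ chart aX) : dif q r * dif p q = dif p r := by
  have h : sect p ≫ r.top = lift ((dif p q)⁻¹ * (dif q r)⁻¹) r.base := by
    rw [sect_trans p q, Category.assoc, r.eqv, lift_whiskerLeft_assoc, sect_top_dif]
    exact leftMul_pt _ _ _
  have h' := congrArg (fun k => k ≫ fst G X) ((sect_top_dif p r).symm.trans h)
  have h'' : (dif p r)⁻¹ = (dif p q)⁻¹ * (dif q r)⁻¹ := ((lift_fst _ _).symm.trans h').trans (lift_fst _ _)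
  rw [← _root_.inv_inv (dif p r), h'', _root_.mul_inv_rev, _root_.inv_inv, _root_.inv_inv]

theorem dif_symm (p q : z ⟶ chart aX) : dif q p = (dif p q)⁻¹ :=
  eq_inv_of_mul_eq_one_left (by rw [dif_comp, dif_self])

theorem sect_natural (j : z' ⟶ z) (p : z ⟶ chart aX) : sect (j ≫ p) ≫ j.top = j.base ≫ sect p := by
  refine p.cart.hom_ext ?_ ?_
  · rw [Category.assoc, ← AlgSt.QuotObj.comp_top, sect_top, Category.assoc, sect_top, comp_lift, MonObj.comp_one,
      AlgSt.QuotObj.comp_base]
  · rw [Category.assoc, show j.top ≫ z.π = z'.π ≫ j.base from j.cart.w, ← Category.assoc, sect_π, Category.assoc,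
      sect_π, Category.comp_id, Category.id_comp]

theorem dif_natural (j : z' ⟶ z) (p q : z ⟶ chart aX) : dif (j ≫ p) (j ≫ q) = j.base ≫ dif p q := by
  rw [dif, dif, GrpObj.comp_inv, AlgSt.QuotObj.comp_top, ← Category.assoc (sect (j ≫ p)), sect_natural,
    Category.assoc, Category.assoc, Category.assoc]

variable [IsAffineHom G.hom] [Flat G.hom] [LocallyOfFinitePresentation G.hom]

theorem isFibGrpd_quotSt : FibCat.IsFibGrpd (AlgSt.QuotSt Scheme.fppfPrecoverage G aX).p :=
  (Groth.L09.Artin.isAlgStack_quotSt aX).isStack.1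

/-- Morphisms into an object over a given morphism of bases. -/
theorem exists_over {y x : AlgSt.QuotObj Scheme.fppfPrecoverage G aX} (r : y ⟶ x) (p : z ⟶ x)
    (g : z.base ⟶ y.base) (e : g ≫ r.base = p.base) : ∃ t : z ⟶ y, t ≫ r = p ∧ t.base = g := by
  obtain ⟨t, ⟨ht, htr⟩, -⟩ := Groth.L23.RelGen.existsUnique_factor (𝒳 := AlgSt.QuotSt Scheme.fppfPrecoverage G aX)
    isFibGrpd_quotSt p r g e
  exact ⟨t, htr, ht⟩

/-- Any difference occurs. -/
theorem exists_dif (p : z ⟶ chart aX) (k : z.base ⟶ G) : ∃ q : z ⟶ chart aX, dif p q = k := by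
  let a : triv aX (G ⊗ X) (snd G X) ⟶ chart aX := trivMap aX (snd G X) (𝟙 X) (snd G X) (Category.comp_id _)
  let b : triv aX (G ⊗ X) (snd G X) ⟶ chart aX :=
    shearHom aX ≫ trivMap aX aX.act (𝟙 X) aX.act (Category.comp_id _)
  obtain ⟨t, hta, htb⟩ := exists_over a p (lift k p.base) (lift_snd _ _)
  refine ⟨t ≫ b, ?_⟩
  have h₁ : sect p ≫ t.top = lift (1 : z.base ⟶ G) (lift k p.base) := by
    refine (AlgSt.isPullback_whiskerLeft (G := G) (snd G X)).hom_ext ?_ ?_
    · rw [Category.assoc, lift_whiskerLeft, lift_snd]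
      exact (congrArg (fun k => sect p ≫ k) (congrArg AlgSt.QuotObj.Hom.top hta)).trans (sect_top p)
    · rw [Category.assoc, lift_snd, show t.top ≫ snd G (G ⊗ X) = z.π ≫ t.base from t.cart.w, ← Category.assoc,
        sect_π, Category.id_comp, htb]
  have h₂ : sect p ≫ (t ≫ b).top = lift k⁻¹ (lift k p.base ≫ aX.act) := by
    rw [← shear_pt aX k p.base, AlgSt.QuotObj.comp_top, ← Category.assoc, h₁]
    rfl
  rw [dif, h₂, lift_fst, _root_.inv_inv]

theorem exists_dif' (q : z ⟶ chart aX) (k : z.base ⟶ G) : ∃ p : z ⟶ chart aX, dif p q = k := by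
  obtain ⟨p, hp⟩ := exists_dif q k⁻¹
  exact ⟨p, by rw [dif_symm, hp, _root_.inv_inv]⟩

end Groth.L23.QuotGM
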