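import Groth.Prelude.Def_W4c1tameactTame
import Mathlib.RingTheory.TensorProduct.Maps
import Mathlib.RingTheory.IsTensorProduct

/-!
# A semilinear map moved by a point of the group
-/

universe u v v₁ v₂ w w'

open TensorProduct

set_option linter.unusedSectionVars false
set_option linter.style.haveILetI false

noncomputable section

namespace Groth.L23.QuotGM

variable {R : Type u} [CommRing R] {A : Type v} [CommRing A] [HopfAlgebra R A]
  {M : Type v₁} [AddCommGroup M] [Module R M]
  {K : Type v₂} [CommRing K] [Algebra R K]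
  {N : Type w} [AddCommGroup N] [Module K N] [Module R N] [IsScalarTower R K N]
  {K' : Type v₂} [CommRing K'] [Algebra R K']
  {N' : Type w'} [AddCommGroup N'] [Module K' N'] [Module R N'] [IsScalarTower R K' N']

/-- `m ⊗ a ↦ k a • f m`. -/
def kap {A₁ : Type*} [CommRing A₁] [Algebra R A₁] (k : A₁ →ₐ[R] K) (f : M →ₗ[R] N) : M ⊗[R] A₁ →ₗ[R] N :=
  TensorProduct.lift (((Algebra.lsmul R R N : K →ₐ[R] Module.End R N).toLinearMap ∘ₗ k.toLinearMap).flip ∘ₗ f)

@[simp] theorem kap_tmul {A₁ : Type*} [CommRing A₁] [Algebra R A₁] (k : A₁ →ₐ[R] K) (f : M →ₗ[R] N) (m : M)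
    (a : A₁) : kap k f (m ⊗ₜ a) = k a • f m := rfl

/-- The map moved by the point `k`. -/
def mv (c : M →ₗ[R] M ⊗[R] A) (k : A →ₐ[R] K) (f : M →ₗ[R] N) : M →ₗ[R] N := kap k f ∘ₗ c

theorem mv_apply (c : M →ₗ[R] M ⊗[R] A) (k : A →ₐ[R] K) (f : M →ₗ[R] N) (m : M) :
    mv c k f m = kap k f (c m) := rfl

theorem kap_map (k : A →ₐ[R] K) (φ : K →ₐ[R] K') (g : N →+ N') (hg : ∀ (r : K) x, g (r • x) = φ r • g x)
    (f : M →ₗ[R] N) (f' : M →ₗ[R] N') (hf : ∀ m, g (f m) = f' m) (t : M ⊗[R] A) :
    g (kap k f t) = kap (φ.comp k) f' t := by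
  induction t using TensorProduct.induction_on with
  | zero => simp
  | add a b ha hb => simp only [map_add, ha, hb]
  | tmul m a => rw [kap_tmul, kap_tmul, hg, hf]; rfl

/-- A semilinear map commutes with moving. -/
theorem mv_map (c : M →ₗ[R] M ⊗[R] A) (k : A →ₐ[R] K) (φ : K →ₐ[R] K') (g : N →+ N')
    (hg : ∀ (r : K) x, g (r • x) = φ r • g x) (f : M →ₗ[R] N) (f' : M →ₗ[R] N') (hf : ∀ m, g (f m) = f' m) (m : M) :
    g (mv c k f m) = mv c (φ.comp k) f' m :=
  kap_map k φ g hg f f' hf (c m)

theorem kap_comp {M' : Type*} [AddCommGroup M'] [Module R M'] (θ : M →ₗ[R] M') (k : A →ₐ[R] K)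
    (f : M' →ₗ[R] N) (t : M ⊗[R] A) : kap k f (θ.rTensor A t) = kap k (f ∘ₗ θ) t := by
  induction t using TensorProduct.induction_on with
  | zero => simp
  | add a b ha hb => simp only [map_add, ha, hb]
  | tmul m a => simp

theorem mv_fixed (c : M →ₗ[R] M ⊗[R] A) (k : A →ₐ[R] K) (f : M →ₗ[R] N) {m : M} (hm : c m = m ⊗ₜ 1) :
    mv c k f m = f m := by
  rw [mv_apply, hm, kap_tmul, map_one, one_smul]

theorem kap_one (f : M →ₗ[R] N) (t : M ⊗[R] A) :
    kap ((Algebra.ofId R K).comp (Bialgebra.counitAlgHom R A)) f t =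
      f (TensorProduct.rid R M ((CoalgebraStruct.counit (R := R) (A := A)).lTensor M t)) := by
  induction t using TensorProduct.induction_on with
  | zero => simp
  | add a b ha hb => simp only [map_add, ha, hb]
  | tmul m a =>
    simp only [kap_tmul, AlgHom.comp_apply, Algebra.ofId_apply, algebraMap_smul, LinearMap.lTensor_tmul,
      TensorProduct.rid_tmul, map_smul]
    rfl

theorem mv_one (c : M →ₗ[R] M ⊗[R] A)
    (hc : (CoalgebraStruct.counit (R := R) (A := A)).lTensor M ∘ₗ c = (TensorProduct.mk R M R).flip 1)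
    (f : M →ₗ[R] N) (m : M) : mv c ((Algebra.ofId R K).comp (Bialgebra.counitAlgHom R A)) f m = f m := by
  have h := LinearMap.congr_fun hc m
  rw [LinearMap.comp_apply] at h
  rw [mv_apply, kap_one, h]
  simp

/-- Moving twice. -/
theorem kap_mv (c : M →ₗ[R] M ⊗[R] A) (k₁ k₂ : A →ₐ[R] K) (f : M →ₗ[R] N) (t : M ⊗[R] A) :
    kap k₁ (mv c k₂ f) t = kap (Algebra.TensorProduct.lift k₂ k₁ fun _ _ => .all _ _) f
      (TensorProduct.assoc R M A A (c.rTensor A t)) := by
  induction t using TensorProduct.induction_on with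
  | zero => simp
  | add a b ha hb => simp only [map_add, ha, hb]
  | tmul m a =>
    rw [kap_tmul, mv_apply, LinearMap.rTensor_tmul]
    induction c m using TensorProduct.induction_on with
    | zero => simp
    | add p q hp hq => simp only [map_add, add_tmul, smul_add, hp, hq]
    | tmul n b =>
      rw [TensorProduct.assoc_tmul, kap_tmul, kap_tmul, Algebra.TensorProduct.lift_tmul, ← mul_smul, mul_comm]

theorem mv_mv (c : M →ₗ[R] M ⊗[R] A)
    (hc : (TensorProduct.assoc R M A A).toLinearMap ∘ₗ c.rTensor A ∘ₗ c =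
      (CoalgebraStruct.comul (R := R) (A := A)).lTensor M ∘ₗ c)
    (k₁ k₂ : A →ₐ[R] K) (f : M →ₗ[R] N) (m : M) :
    mv c k₁ (mv c k₂ f) m = mv c ((Algebra.TensorProduct.lift k₂ k₁ fun _ _ => .all _ _).comp
      (Bialgebra.comulAlgHom R A)) f m := by
  have h := LinearMap.congr_fun hc m
  simp only [LinearMap.comp_apply, LinearEquiv.coe_coe] at h
  rw [mv_apply, kap_mv, h, mv_apply]
  induction c m using TensorProduct.induction_on with
  | zero => simp
  | add p q hp hq => simp only [map_add, hp, hq]
  | tmul n a => rfl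

section Smul

variable {B : Type*} [CommRing B] [Algebra R B] [Module B M] [IsScalarTower R B M]

theorem kap_hmSMul (x : B →ₐ[R] K) (k : A →ₐ[R] K) (f : M →ₗ[R] N) (hf : ∀ b m, f (b • m) = x b • f m)
    (z : B ⊗[R] A) (t : M ⊗[R] A) :
    kap k f (TameAct.hmSMul R A B M z t) =
      (Algebra.TensorProduct.lift x k fun _ _ => .all _ _) z • kap k f t := by
  induction z using TensorProduct.induction_on with
  | zero => simp
  | add a b ha hb => simp only [map_add, LinearMap.add_apply, add_smul, ha, hb]
  | tmul b a =>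
    induction t using TensorProduct.induction_on with
    | zero => simp
    | add p q hp hq => simp only [map_add, smul_add, hp, hq]
    | tmul m a' =>
      rw [TameAct.hmSMul_tmul, kap_tmul, kap_tmul, Algebra.TensorProduct.lift_tmul, hf, map_mul, ← mul_smul,
        ← mul_smul]
      congr 1
      ring

theorem mv_smul [HopfRep.Comod R A B] [GLin.IsCoactAlg R A B] [HopfRep.Comod R A M] [TameAct.IsHopfMod R A B M]
    (x : B →ₐ[R] K) (k : A →ₐ[R] K) (f : M →ₗ[R] N) (hf : ∀ b m, f (b • m) = x b • f m) (b : B) (m : M) :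
    mv (HopfRep.Comod.coact (k := R) (A := A)) k f (b • m) =
      ((Algebra.TensorProduct.lift x k fun _ _ => .all _ _).comp (GLin.coactAlgHom R A B)) b •
        mv (HopfRep.Comod.coact (k := R) (A := A)) k f m := by
  rw [mv_apply, TameAct.IsHopfMod.coact_smul (k := R) (A := A) (B := B), kap_hmSMul x k f hf]
  rfl

end Smul

section BaseChange

variable {B : Type*} [CommRing B] [Algebra R B]

/-- Over a product of the space and the group, sections are module tensor functions on the group. -/
theorem kap_bijective {A' : Type*} [CommRing A'] [Algebra R A'] [Module B M] [IsScalarTower R B M]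
    [Algebra B K] [IsScalarTower R B K] [Module B N] [IsScalarTower B K N]
    (k : A' →ₐ[R] K)
    (hl : Function.Bijective (Algebra.TensorProduct.lift (IsScalarTower.toAlgHom R B K) k fun _ _ => .all _ _))
    (g : M →ₗ[B] N) (hg : IsBaseChange K g) (f : M →ₗ[R] N) (hf : ∀ m, f m = g m)
    (Φ : M ⊗[R] A' →ₗ[R] N) (hΦ : ∀ m a, Φ (m ⊗ₜ a) = k a • f m) : Function.Bijective Φ := by
  letI : Algebra A' K := k.toRingHom.toAlgebra
  haveI : IsScalarTower R A' K := IsScalarTower.of_algebraMap_eq fun r => (k.commutes r).symm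
  haveI : Algebra.IsPushout R B A' K := by
    refine ⟨?_⟩
    refine IsBaseChange.of_equiv (LinearEquiv.ofBijective
      ({ toFun := Algebra.TensorProduct.lift (IsScalarTower.toAlgHom R B K) k fun _ _ => .all _ _
         map_add' := map_add _
         map_smul' := fun b z => by
           induction z using TensorProduct.induction_on with
           | zero => simp
           | add p q hp hq => simp only [smul_add, map_add, hp, hq]
           | tmul b' a => simp [Algebra.smul_def, mul_assoc] } : B ⊗[R] A' →ₗ[B] K) hl)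
      fun a => ?_
    show Algebra.TensorProduct.lift (IsScalarTower.toAlgHom R B K) k (fun _ _ => .all _ _) ((1 : B) ⊗ₜ a) = algebraMap A' K a
    rw [Algebra.TensorProduct.lift_tmul, map_one, one_mul]
    rfl
  haveI : Algebra.IsPushout R A' B K := Algebra.IsPushout.symm inferInstance
  let E := (Algebra.IsPushout.cancelBaseChange R A' B K M).symm.toAddEquiv.trans hg.equiv.toAddEquiv
  have key : ∀ t, Φ t = E (TensorProduct.comm R M A' t) := by
    intro t
    induction t using TensorProduct.induction_on with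
    | zero => simp
    | add p q hp hq => simp only [map_add, hp, hq]
    | tmul m a =>
      show Φ (m ⊗ₜ a) = hg.equiv ((Algebra.IsPushout.cancelBaseChange R A' B K M).symm (a ⊗ₜ m))
      rw [Algebra.IsPushout.cancelBaseChange_symm_tmul, hg.equiv_tmul, hΦ, hf]
      rfl
  rw [show ⇑Φ = E ∘ (TensorProduct.comm R M A') from funext key]
  exact E.bijective.comp (TensorProduct.comm R M A').bijective

end BaseChange

end Groth.L23.QuotGM
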