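import Groth.Agent.L23.QuotGM.Pts
import Groth.Agent.L23.QuotGM.Dif
import Groth.Agent.L23.QuotGM.Moved
import Groth.Agent.L23.RelGen.Atlas

/-!
# The affine chart of the quotient stack of a coaction
-/

universe u

open CategoryTheory CategoryTheory.Limits MonoidalCategory CartesianMonoidalCategory MonObj AlgebraicGeometry
open scoped TensorProduct

set_option backward.isDefEq.respectTransparency false
set_option backward.isDefEq.respectTransparency.types false
set_option linter.style.haveILetI false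
set_option linter.unusedSectionVars false
set_option linter.unusedVariables false
set_option synthInstance.maxHeartbeats 400000
set_option maxHeartbeats 1000000

noncomputable section

namespace Groth.L23.QuotGM

open StMod Groth.L23.RelGen Groth.L11.ThetaAff CoactBr
open Groth.L19.QCohFpqc (IsCov)

attribute [local instance] hasIsos_fppf

variable (R A B : Type u) [CommRing R] [CommRing A] [HopfAlgebra R A] [CommRing B] [Algebra R B]
  [HopfRep.Comod R A B] [GLin.IsCoactAlg R A B]

/-- The quotient stack of the coaction. -/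
abbrev QS : AlgSt.Cat (Spec (CommRingCat.of R)) :=
  AlgSt.QuotSt Scheme.fppfPrecoverage (sp R A) (action R A B)

/-- The chart. -/
abbrev x0 : (QS R A B).obj := chart (action R A B)

theorem flat_sp [Module.Flat R A] : Flat (sp R A).hom := by
  rw [sp_hom]
  exact (HasRingHomProperty.Spec_iff (P := @Flat)).2 ((RingHom.flat_algebraMap_iff ).2 inferInstance)

theorem lfp_sp [Algebra.FinitePresentation R A] : LocallyOfFinitePresentation (sp R A).hom := by
  rw [sp_hom]
  exact (HasRingHomProperty.Spec_iff (P := @LocallyOfFinitePresentation)).2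
    (RingHom.finitePresentation_algebraMap.2 inferInstance)

theorem isAffineHom_sp : IsAffineHom (sp R A).hom := by
  haveI : IsAffine (sp R A).left := isAffine_Spec _
  infer_instance

theorem aff_x0 : IsAffine (sch (QS R A B) (x0 R A B)) := isAffine_Spec _

variable {R A B}

/-- Functions at an object form an algebra. -/
abbrev Fu (z : (QS R A B).obj) : Type u := Fn z

scoped instance algFn (z : (QS R A B).obj) : Algebra R (Fu z) := algΓ z.base

/-- The coordinates of a morphism to the chart. -/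
def cmB {z : (QS R A B).obj} (p : z ⟶ x0 R A B) : B →ₐ[R] Fu z := cm (B := B) p.base

/-- The coordinates of the difference of two morphisms to the chart. -/
def cmK {z : (QS R A B).obj} (p q : z ⟶ x0 R A B) : A →ₐ[R] Fu z := cm (B := A) (dif p q)

theorem cmB_eq {z : (QS R A B).obj} (p q : z ⟶ x0 R A B) :
    cmB p = (Algebra.TensorProduct.lift (cmB q) (cmK p q) fun _ _ => .all _ _).comp (GLin.coactAlgHom R A B) := by
  rw [cmB, cmB, cmK, ← cm_ract, ← lift_action_ract (dif p q) p.base q.base (dif_base p q)]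

theorem cmK_self {z : (QS R A B).obj} (p : z ⟶ x0 R A B) :
    cmK p p = (Algebra.ofId R (Fu z)).comp (Bialgebra.counitAlgHom R A) := by
  rw [cmK, dif_self, cm_one]
  rfl

theorem cmK_comp {z : (QS R A B).obj} (p q r : z ⟶ x0 R A B) :
    cmK p r = (Algebra.TensorProduct.lift (cmK q r) (cmK p q) fun _ _ => .all _ _).comp
      (Bialgebra.comulAlgHom R A) := by
  rw [cmK, cmK, cmK, ← cm_mul, dif_comp]

/-- Restriction of functions. -/
def pullZ {z' z : (QS R A B).obj} (j : z' ⟶ z) : Fu z →ₐ[R] Fu z' := pull j.base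

theorem pullZ_apply {z' z : (QS R A B).obj} (j : z' ⟶ z) (r : Fu z) : pullZ j r = fnMap j r := rfl

theorem cmB_natural {z' z : (QS R A B).obj} (j : z' ⟶ z) (p : z ⟶ x0 R A B) :
    cmB (j ≫ p) = (pullZ j).comp (cmB p) := cm_comp j.base p.base

theorem cmK_natural {z' z : (QS R A B).obj} (j : z' ⟶ z) (p q : z ⟶ x0 R A B) :
    cmK (j ≫ p) (j ≫ q) = (pullZ j).comp (cmK p q) := by
  rw [cmK, cmK, dif_natural]
  exact cm_comp j.base (dif p q)

theorem eq_of_cmK {z : (QS R A B).obj} (p : z ⟶ x0 R A B) {q q' : z ⟶ x0 R A B} (e : cmK p q = cmK p q') :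
    q = q' := ext_dif p (cm_injective e)

theorem eq_of_cmK' {z : (QS R A B).obj} (q : z ⟶ x0 R A B) {p p' : z ⟶ x0 R A B} (e : cmK p q = cmK p' q) :
    p = p' := by
  refine ext_dif q ?_
  rw [dif_symm p q, dif_symm p' q, cm_injective e]

variable (R A B)

/-- The coordinates of the chart. -/
def e0 : B ≃ₐ[R] Fu (x0 R A B) := specEquiv (R := R) B

variable {R A B}

theorem cmB_apply {z : (QS R A B).obj} (p : z ⟶ x0 R A B) (b : B) : cmB p b = fnMap p (e0 R A B b) := by
  have h : p.base = p.base ≫ 𝟙 (sp R B) := (Category.comp_id _).symm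
  rw [cmB, h, cm_comp]
  rfl

variable [Module.Flat R A] [Algebra.FinitePresentation R A]

theorem isFibGrpd_QS : FibCat.IsFibGrpd (QS R A B).p := by
  haveI := flat_sp R A
  haveI := lfp_sp R A
  haveI := isAffineHom_sp R A
  exact isFibGrpd_quotSt

theorem exists_overQS {z y x : (QS R A B).obj} (r : y ⟶ x) (p : z ⟶ x) (g : z.base ⟶ y.base)
    (e : g ≫ r.base = p.base) : ∃ t : z ⟶ y, t ≫ r = p ∧ t.base = g := by
  haveI := flat_sp R A
  haveI := lfp_sp R A
  haveI := isAffineHom_sp R A
  exact exists_over r p g e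

theorem exists_cmK' {z : (QS R A B).obj} (q : z ⟶ x0 R A B) (k : A →ₐ[R] Fu z) :
    ∃ p : z ⟶ x0 R A B, cmK p q = k := by
  haveI := flat_sp R A
  haveI := lfp_sp R A
  haveI := isAffineHom_sp R A
  obtain ⟨g, hg⟩ := exists_of_cm z.base k
  obtain ⟨p, hp⟩ := exists_dif' q g
  exact ⟨p, by rw [cmK, hp, hg]⟩

/-- Objects with affine scheme lift to the chart, locally on finitely many affines. -/
theorem exists_loc (x : (QS R A B).obj) (hx : IsAffine (sch (QS R A B) x)) :
    ∃ 𝒰 : Cover x, Finite 𝒰.ι ∧ ∀ l, Nonempty (𝒰.obj l ⟶ x0 R A B) := by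
  haveI := flat_sp R A
  haveI := lfp_sp R A
  haveI := isAffineHom_sp R A
  obtain ⟨hflat, hlfp, hsur⟩ := torsor_fppf (action R A B) x
  haveI := hflat
  haveI := hlfp
  haveI : IsAffine x.base.left := hx
  let π := x.π.left
  let 𝒱 := x.P.left.affineCover
  have hopen : IsOpenMap π := π.isOpenMap
  obtain ⟨s, hs⟩ := (isCompact_univ (X := x.base.left)).elim_finite_subcover
    (fun i => π '' Set.range (𝒱.f i)) (fun i => hopen _ (𝒱.f i).isOpenEmbedding.isOpen_range) (fun y _ => by
      obtain ⟨w, hw⟩ := hsur.surj y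
      obtain ⟨i, v, hv⟩ := 𝒱.exists_eq w
      exact Set.mem_iUnion.2 ⟨i, w, ⟨v, hv⟩, hw⟩)
  let V : Fin s.card → Over (Spec (CommRingCat.of R)) := fun l =>
    Over.mk (𝒱.f (s.equivFin.symm l).1 ≫ x.P.hom)
  let j : ∀ l, V l ⟶ x.P := fun l => Over.homMk (𝒱.f (s.equivFin.symm l).1) rfl
  refine ⟨⟨ULift.{u} (Fin s.card), fun l => triv (action R A B) (V l.down) (j l.down ≫ x.φ),
    fun l => trivMap (action R A B) (j l.down) x.φ _ rfl ≫ coverHom (action R A B) x,
    fun l => (inferInstance : IsAffine (𝒱.X (s.equivFin.symm l.down).1)), ⟨fun l => ?_, fun y => ?_⟩⟩,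
    (inferInstance : Finite (ULift.{u} (Fin s.card))),
    fun l => ⟨trivMap (action R A B) (j l.down ≫ x.φ) (𝟙 _) _ (Category.comp_id _)⟩⟩
  · show Flat (𝒱.f (s.equivFin.symm l.down).1 ≫ π)
    infer_instance
  · obtain ⟨i, hi, w, ⟨v, rfl⟩, hw⟩ : ∃ i ∈ s, y ∈ π '' Set.range (𝒱.f i) := by
      simpa using hs (Set.mem_univ y)
    obtain ⟨l, hl⟩ : ∃ l, s.equivFin.symm l = ⟨i, hi⟩ := s.equivFin.symm.surjective _
    obtain rfl : (s.equivFin.symm l).1 = i := by rw [hl]
    exact ⟨⟨l⟩, v, hw⟩

/-- An object over the chart with prescribed coordinates and difference. -/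
theorem exists_pairObj (K : Type u) [CommRing K] [Algebra R K] (x : B →ₐ[R] K) (k : A →ₐ[R] K) :
    ∃ (v : (QS R A B).obj) (p q : v ⟶ x0 R A B) (e : K ≃ₐ[R] Fu v), IsAffine (sch (QS R A B) v) ∧
      cmB q = e.toAlgHom.comp x ∧ cmK p q = e.toAlgHom.comp k ∧
      ∀ {z : (QS R A B).obj} (p' q' : z ⟶ x0 R A B) (φ : K →ₐ[R] Fu z), φ.comp x = cmB q' → φ.comp k = cmK p' q' →
        ∃ t : z ⟶ v, t ≫ p = p' ∧ t ≫ q = q' ∧ (pullZ t).comp e.toAlgHom = φ := by
  let v : (QS R A B).obj := triv (action R A B) (sp R K) (pt x)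
  let q : v ⟶ x0 R A B := trivMap (action R A B) (pt x) (𝟙 _) _ (Category.comp_id _)
  obtain ⟨p, hp⟩ := exists_cmK' q ((specEquiv (R := R) K).toAlgHom.comp k)
  refine ⟨v, p, q, specEquiv (R := R) K, isAffine_Spec _, ?_, hp, fun {z} p' q' φ hx hk => ?_⟩
  · exact cm_pt x
  · obtain ⟨g, hg⟩ := exists_of_cm (B := K) z.base φ
    have hgx : cm (g ≫ pt x) = φ.comp x := by
      rw [cm_comp, cm_pt, ← AlgHom.comp_assoc]
      refine congrArg (fun ψ : K →ₐ[R] Fu z => ψ.comp x) ?_
      rw [← cm_id, ← cm_comp]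
      exact (congrArg cm (Category.comp_id g)).trans hg
    obtain ⟨t, ht, htb⟩ := exists_overQS q q' g (cm_injective (hgx.trans hx))
    have he : (pullZ t).comp (specEquiv (R := R) K).toAlgHom = φ := by
      rw [← hg, ← cm_id]
      refine (cm_comp t.base (𝟙 (sp R K))).symm.trans ?_
      rw [htb]
      exact congrArg cm (Category.comp_id g)
    refine ⟨t, eq_of_cmK' q' ?_, ht, he⟩
    calc cmK (t ≫ p) q' = cmK (t ≫ p) (t ≫ q) := by rw [ht]
      _ = (pullZ t).comp (cmK p q) := cmK_natural t p q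
      _ = cmK p' q' := by rw [hp, ← AlgHom.comp_assoc, he, hk]

end Groth.L23.QuotGM
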