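import Groth.Agent.L23.QuotGM.Chart

/-!
# The relative Hopf module of a quasi-coherent module on the quotient stack
-/

universe u

open CategoryTheory MonoidalCategory AlgebraicGeometry
open scoped TensorProduct

set_option backward.isDefEq.respectTransparency false
set_option backward.isDefEq.respectTransparency.types false
set_option linter.style.haveILetI false
set_option linter.unusedSectionVars false
set_option linter.unusedVariables false
set_option synthInstance.maxHeartbeats 400000
set_option maxHeartbeats 1000000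

noncomputable section

namespace Groth.L23.QuotGM

open StMod Groth.L23.RelGen

variable {R A B : Type u} [CommRing R] [CommRing A] [HopfAlgebra R A] [CommRing B] [Algebra R B]
  [HopfRep.Comod R A B] [GLin.IsCoactAlg R A B] {F : Mod (QS R A B)}

scoped instance modR (F : Mod (QS R A B)) (z : (QS R A B).obj) : Module R (Sec F z) :=
  Module.compHom (Sec F z) (algebraMap R (Fu z))

theorem tower_secR (F : Mod (QS R A B)) (z : (QS R A B).obj) : IsScalarTower R (Fu z) (Sec F z) :=
  IsScalarTower.of_algebraMap_smul fun _ _ => rfl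

scoped instance instTowerR (F : Mod (QS R A B)) (z : (QS R A B).obj) : IsScalarTower R (Fu z) (Sec F z) :=
  tower_secR F z

theorem pullZ_smul {z' z : (QS R A B).obj} (j : z' ⟶ z) (r : Fu z) (m : Sec F z) :
    F.mapTop j (r • m) = pullZ j r • F.mapTop j m := F.mapTop_smul j r m

/-- Restriction of sections as a linear map. -/
def resR (F : Mod (QS R A B)) {z' z : (QS R A B).obj} (j : z' ⟶ z) : Sec F z →ₗ[R] Sec F z' where
  toFun := F.mapTop j
  map_add' := F.mapTop_add j
  map_smul' r m := (pullZ_smul j (algebraMap R (Fu z) r) m).trans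
    (congrArg (fun a => a • F.mapTop j m) ((pullZ j).commutes r))

@[simp] theorem resR_apply {z' z : (QS R A B).obj} (j : z' ⟶ z) (m : Sec F z) : resR F j m = F.mapTop j m := rfl

/-- Restriction as an additive map. -/
def resA (F : Mod (QS R A B)) {z' z : (QS R A B).obj} (j : z' ⟶ z) : Sec F z →+ Sec F z' := (resR F j).toAddMonoidHom

/-- The coaction attached to a module at the chart. -/
def IsCoact (F : Mod (QS R A B)) (c : Sec F (x0 R A B) →ₗ[R] Sec F (x0 R A B) ⊗[R] A) : Prop :=
  ∀ (z : (QS R A B).obj) (_ : IsAffine (sch (QS R A B) z)) (p q : z ⟶ x0 R A B) (m : Sec F (x0 R A B)),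
    F.mapTop p m = mv c (cmK p q) (resR F q) m

variable [Module.Flat R A] [Algebra.FinitePresentation R A]

/-- Sections over a product of the chart and the group. -/
theorem kap_sec_bijective (hF : F.IsCartesian) (hq : F.IsLocQCoh) {v : (QS R A B).obj}
    (hv : IsAffine (sch (QS R A B) v)) {A' : Type u} [CommRing A'] [Algebra R A'] (q : v ⟶ x0 R A B)
    (k : A' →ₐ[R] Fu v) (hl : Function.Bijective (Algebra.TensorProduct.lift (cmB q) k fun _ _ => .all _ _)) :
    Function.Bijective (kap k (resR F q)) := by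
  haveI := hv
  haveI := aff_x0 R A B
  letI : Algebra (Fu (x0 R A B)) (Fu v) := (fnMap q).toAlgebra
  letI : Module (Fu (x0 R A B)) (Sec F v) := Module.compHom (Sec F v) (fnMap q)
  haveI : IsScalarTower (Fu (x0 R A B)) (Fu v) (Sec F v) := IsScalarTower.of_algebraMap_smul fun _ _ => rfl
  haveI : IsScalarTower R (Fu (x0 R A B)) (Fu v) :=
    IsScalarTower.of_algebraMap_eq fun r => ((pullZ q).commutes r).symm
  have hb := isBaseChange_topMap hF hq q
  let g : Sec F (x0 R A B) →ₗ[Fu (x0 R A B)] Sec F v :=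
    { toFun := F.mapTop q, map_add' := F.mapTop_add q, map_smul' := F.mapTop_smul q }
  refine kap_bijective (B := Fu (x0 R A B)) (K := Fu v) k ?_ g hb (resR F q) (fun _ => rfl) _ fun m a => rfl
  have e : ⇑(Algebra.TensorProduct.lift (cmB q) k fun _ _ => .all _ _) =
      (Algebra.TensorProduct.lift (IsScalarTower.toAlgHom R (Fu (x0 R A B)) (Fu v)) k fun _ _ => .all _ _) ∘
        (Algebra.TensorProduct.congr (e0 R A B) (AlgEquiv.refl : A' ≃ₐ[R] A')) := by
    funext t
    induction t using TensorProduct.induction_on with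
    | zero => simp
    | add a b ha hb' => simp only [map_add, Function.comp_apply] at ha hb' ⊢; rw [ha, hb']
    | tmul b a =>
      show _ = (Algebra.TensorProduct.lift (IsScalarTower.toAlgHom R (Fu (x0 R A B)) (Fu v)) k fun _ _ => .all _ _)
        (e0 R A B b ⊗ₜ a)
      rw [Algebra.TensorProduct.lift_tmul, Algebra.TensorProduct.lift_tmul, cmB_apply]
      rfl
  rw [e] at hl
  exact (Function.Bijective.of_comp_iff _ (Algebra.TensorProduct.congr (e0 R A B) AlgEquiv.refl).bijective).1 hl

theorem lift_incl_bijective {A' : Type u} [CommRing A'] [Algebra R A'] {K : Type u} [CommRing K] [Algebra R K]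
    (e : B ⊗[R] A' ≃ₐ[R] K) {x : B →ₐ[R] K} {k : A' →ₐ[R] K}
    (hx : x = e.toAlgHom.comp Algebra.TensorProduct.includeLeft)
    (hk : k = e.toAlgHom.comp Algebra.TensorProduct.includeRight) :
    Function.Bijective (Algebra.TensorProduct.lift x k fun _ _ => .all _ _) := by
  have h : Algebra.TensorProduct.lift x k (fun _ _ => .all _ _) = e.toAlgHom := by
    subst hx hk
    ext <;> simp
  rw [h]
  exact e.bijective

/-- The chart has a coaction. -/
theorem exists_isCoact (hF : F.IsCartesian) (hq : F.IsLocQCoh) : ∃ c, IsCoact F c := by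
  obtain ⟨v, p, q, e, hv, hx, hk, huniv⟩ := exists_pairObj (R := R) (A := A) (B := B) (B ⊗[R] A)
    Algebra.TensorProduct.includeLeft Algebra.TensorProduct.includeRight
  have hb := kap_sec_bijective hF hq hv q (cmK p q) (lift_incl_bijective e hx hk)
  let Ψ := LinearEquiv.ofBijective _ hb
  refine ⟨Ψ.symm.toLinearMap ∘ₗ resR F p, fun z hz p' q' m => ?_⟩
  let φ : B ⊗[R] A →ₐ[R] Fu z := Algebra.TensorProduct.lift (cmB q') (cmK p' q') fun _ _ => .all _ _
  obtain ⟨t, htp, htq, -⟩ := huniv p' q' φ (Algebra.TensorProduct.lift_comp_includeLeft _ _ _)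
    (Algebra.TensorProduct.lift_comp_includeRight' _ _ _)
  have h := mv_map (Ψ.symm.toLinearMap ∘ₗ resR F p) (cmK p q) (pullZ t) (resA F t) (pullZ_smul t) (resR F q)
    (resR F q') (fun a => by rw [← htq]; exact (F.mapTop_comp t q a).symm) m
  rw [← cmK_natural, htp, htq] at h
  refine Eq.trans ?_ h
  have h2 : mv (Ψ.symm.toLinearMap ∘ₗ resR F p) (cmK p q) (resR F q) m = F.mapTop p m :=
    Ψ.apply_symm_apply _
  rw [h2, ← htp]
  exact F.mapTop_comp t p m

theorem IsCoact.counit {c : Sec F (x0 R A B) →ₗ[R] Sec F (x0 R A B) ⊗[R] A} (hc : IsCoact F c) :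
    (CoalgebraStruct.counit (R := R) (A := A)).lTensor (Sec F (x0 R A B)) ∘ₗ c = (TensorProduct.mk R (Sec F (x0 R A B)) R).flip 1 := by
  refine LinearMap.ext fun m => ?_
  have h := hc _ (aff_x0 R A B) (𝟙 _) (𝟙 _) m
  rw [cmK_self, mv_apply, kap_one] at h
  refine (TensorProduct.rid R _).injective ?_
  rw [LinearMap.flip_apply, TensorProduct.mk_apply, TensorProduct.rid_tmul, one_smul, LinearMap.comp_apply]
  rw [resR_apply, Mod.mapTop_id, Mod.mapTop_id] at h
  exact h.symm

theorem kap_comul {K : Type u} [CommRing K] [Algebra R K] {N M : Type u} [AddCommGroup N] [Module K N] [Module R N]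
    [IsScalarTower R K N] [AddCommGroup M] [Module R M] (k : A ⊗[R] A →ₐ[R] K) (f : M →ₗ[R] N) (t : M ⊗[R] A) :
    kap (k.comp (Bialgebra.comulAlgHom R A)) f t =
      kap k f ((CoalgebraStruct.comul (R := R) (A := A)).lTensor M t) := by
  induction t using TensorProduct.induction_on with
  | zero => simp
  | add a b ha hb => simp only [map_add, ha, hb]
  | tmul m a => rfl

theorem IsCoact.coassoc {c : Sec F (x0 R A B) →ₗ[R] Sec F (x0 R A B) ⊗[R] A} (hF : F.IsCartesian) (hq : F.IsLocQCoh) (hc : IsCoact F c) :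
    (TensorProduct.assoc R (Sec F (x0 R A B)) A A).toLinearMap ∘ₗ c.rTensor A ∘ₗ c =
      (CoalgebraStruct.comul (R := R) (A := A)).lTensor (Sec F (x0 R A B)) ∘ₗ c := by
  let i₂ : A →ₐ[R] B ⊗[R] (A ⊗[R] A) :=
    Algebra.TensorProduct.includeRight.comp Algebra.TensorProduct.includeLeft
  obtain ⟨v, q, r, e, hv, hx, hk, -⟩ := exists_pairObj (R := R) (A := A) (B := B) (B ⊗[R] (A ⊗[R] A))
    Algebra.TensorProduct.includeLeft i₂
  obtain ⟨p, hp⟩ := exists_cmK' q (e.toAlgHom.comp
    ((Algebra.TensorProduct.includeRight : A ⊗[R] A →ₐ[R] B ⊗[R] (A ⊗[R] A)).comp Algebra.TensorProduct.includeRight))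
  have hlk : Algebra.TensorProduct.lift (cmK q r) (cmK p q) (fun _ _ => .all _ _) =
      e.toAlgHom.comp Algebra.TensorProduct.includeRight := by
    rw [hk, hp]
    ext <;> simp [i₂]
  have hb := kap_sec_bijective hF hq hv r _ (lift_incl_bijective e hx rfl)
  refine LinearMap.ext fun m => hb.1 ?_
  rw [← hlk]
  simp only [LinearMap.comp_apply, LinearEquiv.coe_coe]
  rw [← kap_mv, ← kap_comul, ← cmK_comp]
  show kap (cmK p q) (mv c (cmK q r) (resR F r)) (c m) = mv c (cmK p r) (resR F r) m
  rw [show mv c (cmK q r) (resR F r) = resR F q from LinearMap.ext fun a => (hc v hv q r a).symm, ← mv_apply,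
    ← hc v hv p q, ← hc v hv p r]

/-- The module at the chart. -/
def M0 (F : Mod (QS R A B)) : Type u := Sec F (x0 R A B)

scoped instance addM0 (F : Mod (QS R A B)) : AddCommGroup (M0 F) := inferInstanceAs (AddCommGroup (Sec F (x0 R A B)))

scoped instance modR0 (F : Mod (QS R A B)) : Module R (M0 F) := inferInstanceAs (Module R (Sec F (x0 R A B)))

scoped instance modB0 (F : Mod (QS R A B)) : Module B (M0 F) :=
  Module.compHom (Sec F (x0 R A B)) (e0 R A B).toAlgHom.toRingHom

omit [Module.Flat R A] [Algebra.FinitePresentation R A] in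
theorem tower_M0 (F : Mod (QS R A B)) : IsScalarTower R B (M0 F) :=
  IsScalarTower.of_algebraMap_smul fun r m => by
    show (e0 R A B (algebraMap R B r) • (show Sec F (x0 R A B) from m)) =
      algebraMap R (Fu (x0 R A B)) r • (show Sec F (x0 R A B) from m)
    rw [AlgEquiv.commutes]

scoped instance instTowerM0 (F : Mod (QS R A B)) : IsScalarTower R B (M0 F) := tower_M0 F

/-- The restriction to an object as a map on the module at the chart. -/
def res0 (F : Mod (QS R A B)) {z : (QS R A B).obj} (q : z ⟶ x0 R A B) : M0 F →ₗ[R] Sec F z := resR F q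

omit [Module.Flat R A] [Algebra.FinitePresentation R A] in
theorem res0_smul {z : (QS R A B).obj} (q : z ⟶ x0 R A B) (b : B) (m : M0 F) :
    res0 F q (b • m) = cmB q b • res0 F q m := by
  rw [cmB_apply]
  exact F.mapTop_smul q (e0 R A B b) m

/-- The comodule at the chart. -/
@[reducible] def IsCoact.comod {c : Sec F (x0 R A B) →ₗ[R] Sec F (x0 R A B) ⊗[R] A} (hF : F.IsCartesian)
    (hq : F.IsLocQCoh) (hc : IsCoact F c) : HopfRep.Comod R A (M0 F) where
  coact := c
  coassoc := hc.coassoc hF hq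
  counit_comp := hc.counit

theorem IsCoact.isHopfMod {c : Sec F (x0 R A B) →ₗ[R] Sec F (x0 R A B) ⊗[R] A} (hF : F.IsCartesian)
    (hq : F.IsLocQCoh) (hc : IsCoact F c) :
    letI := hc.comod hF hq
    TameAct.IsHopfMod R A B (M0 F) := by
  letI := hc.comod hF hq
  refine ⟨fun b m => ?_⟩
  obtain ⟨v, p, q, e, hv, hx, hk, -⟩ := exists_pairObj (R := R) (A := A) (B := B) (B ⊗[R] A)
    Algebra.TensorProduct.includeLeft Algebra.TensorProduct.includeRight
  have hinj : Function.Injective (kap (cmK p q) (res0 F q)) :=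
    (kap_sec_bijective hF hq hv q (cmK p q) (lift_incl_bijective e hx hk)).1
  refine hinj ?_
  rw [kap_hmSMul (cmB q) (cmK p q) (res0 F q) (res0_smul q)]
  have h1 : ∀ a, res0 F p a = kap (cmK p q) (res0 F q) (HopfRep.Comod.coact (k := R) (A := A) a) :=
    fun a => hc v hv p q a
  rw [← h1, ← h1, res0_smul, cmB_eq p q]
  rfl

/-- A morphism is compatible with the coactions at the chart. -/
theorem isComodHom_app {c : Sec F (x0 R A B) →ₗ[R] Sec F (x0 R A B) ⊗[R] A} {G : Mod (QS R A B)} {d : Sec G (x0 R A B) →ₗ[R] Sec G (x0 R A B) ⊗[R] A}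
    (hG : G.IsCartesian) (hGq : G.IsLocQCoh) (u : F ⟶ G) (hc : IsCoact F c) (hd : IsCoact G d)
    (θ : Sec F (x0 R A B) →ₗ[R] Sec G (x0 R A B)) (hθ : ∀ m, θ m = (u.app (x0 R A B)).app ⊤ m) :
    d ∘ₗ θ = θ.rTensor A ∘ₗ c := by
  refine LinearMap.ext fun m => ?_
  obtain ⟨v, p, q, e, hv, hx, hk, -⟩ := exists_pairObj (R := R) (A := A) (B := B) (B ⊗[R] A)
    Algebra.TensorProduct.includeLeft Algebra.TensorProduct.includeRight
  refine (kap_sec_bijective hG hGq hv q (cmK p q) (lift_incl_bijective e hx hk)).1 ?_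
  rw [LinearMap.comp_apply, LinearMap.comp_apply, kap_comp]
  show mv d (cmK p q) (resR G q) (θ m) = _
  rw [← hd v hv p q, hθ, Mod.mapTop_app u p m, hc v hv p q m]
  refine (mv_map c (cmK p q) (AlgHom.id R (Fu v)) ((u.app v).app ⊤).hom
    (fun r x => (u.app v).app_smul r x) (resR F q) (resR G q ∘ₗ θ) (fun a => ?_) m).trans rfl
  show (u.app v).app ⊤ (F.mapTop q a) = G.mapTop q (θ a)
  rw [hθ, Mod.mapTop_app]

end Groth.L23.QuotGM
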