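import Groth.Agent.L23.QuotGM.FromHopf

/-!
# Exactness of invariants from cohomological affineness
-/

universe u

open CategoryTheory CategoryTheory.Limits AlgebraicGeometry
open scoped TensorProduct

set_option backward.isDefEq.respectTransparency false
set_option backward.isDefEq.respectTransparency.types false
set_option linter.style.haveILetI false
set_option linter.unusedSectionVars false
set_option linter.unusedVariables false
set_option synthInstance.maxHeartbeats 400000
set_option maxHeartbeats 1000000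

noncomputable section

namespace Groth.L23.QuotGM

open StMod Groth.L23.RelGen Groth.L23.CohAff AlgSp CoactBr

variable {R A B : Type u} [CommRing R] [CommRing A] [HopfAlgebra R A] [CommRing B] [Algebra R B]
  [HopfRep.Comod R A B] [GLin.IsCoactAlg R A B] [Module.Flat R A] [Algebra.FinitePresentation R A]

/-- Surjectivity spreads from the chart. -/
theorem isSurj_of_chart {F G : Mod (QS R A B)} (hF : F.IsCartesian) (hFq : F.IsLocQCoh) (hG : G.IsCartesian)
    (hGq : G.IsLocQCoh) (u : F ⟶ G) (h : Function.Surjective ((u.app (x0 R A B)).app ⊤)) : Mod.IsSurj u := by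
  intro y hy t
  haveI : IsAffine (sch (QS R A B) y) := hy
  haveI := aff_x0 R A B
  obtain ⟨𝒰, -, hl⟩ := exists_loc y hy
  let L : Sec F y →ₗ[Fn y] Sec G y :=
    { toFun := fun m => (u.app y).app ⊤ m, map_add' := map_add ((u.app y).app ⊤).hom,
      map_smul' := fun r m => (u.app y).app_smul r m }
  suffices ht : (LinearMap.range L).mkQ t = 0 by
    exact (Submodule.Quotient.mk_eq_zero _).1 ht
  refine eq_zero_of_cover (η' := 𝒰.obj) 𝒰.map 𝒰.affine 𝒰.cov _ fun l => ?_
  haveI := 𝒰.affine l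
  letI := (fnMap (𝒰.map l)).toAlgebra
  obtain ⟨p⟩ := hl l
  have hs : Function.Surjective ((u.app (𝒰.obj l)).app ⊤) := fun n => by
    refine induction_topMap hG hGq p n (p := fun n => ∃ m, (u.app (𝒰.obj l)).app ⊤ m = n) ⟨0, map_zero _⟩
      (fun r a => ?_) fun a b ⟨a', ha⟩ ⟨b', hb⟩ => ⟨a' + b', (map_add _ a' b').trans (by rw [ha, hb])⟩
    obtain ⟨a', rfl⟩ := h a
    exact ⟨r • F.mapTop p a', ((u.app (𝒰.obj l)).app_smul r _).trans (by rw [Mod.mapTop_app])⟩
  obtain ⟨EF, hEF⟩ := exists_bcEquiv hF hFq (𝒰.map l)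
  obtain ⟨EG, hEG⟩ := exists_bcEquiv hG hGq (𝒰.map l)
  have key : ∀ w, EG (L.lTensor (Fn (𝒰.obj l)) w) = (u.app (𝒰.obj l)).app ⊤ (EF w) := by
    intro w
    induction w using TensorProduct.induction_on with
    | zero => simp only [map_zero]
    | tmul r s =>
      rw [LinearMap.lTensor_tmul, hEG, hEF]
      refine Eq.trans ?_ ((u.app (𝒰.obj l)).app_smul r _).symm
      exact congrArg (fun z => r • z) (Mod.mapTop_app u (𝒰.map l) s)
    | add a b ha hb => simp only [map_add, ha, hb]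
  obtain ⟨s', hs'⟩ := hs (G.mapTop (𝒰.map l) t)
  have e : L.lTensor (Fn (𝒰.obj l)) (EF.symm s') = (1 : Fn (𝒰.obj l)) ⊗ₜ t := by
    refine EG.injective ?_
    rw [key, AddEquiv.apply_symm_apply, hs', hEG, one_smul]
  rw [← LinearMap.lTensor_tmul, ← e, ← LinearMap.comp_apply, ← LinearMap.lTensor_comp,
    LinearMap.range_mkQ_comp, LinearMap.lTensor_zero, LinearMap.zero_apply]

variable (R A B) in
/-- The atlas of the quotient stack. -/
theorem exists_atlas_QS : ∃ (At : Atlas (QS R A B)), At.x₀ = x0 R A B ∧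
    ∀ (E M : QCoh (QS R A B)) (θ : Sec E.obj (x0 R A B) →ₗ[Fn (x0 R A B)] Sec M.obj (x0 R A B)),
      (∀ (v : (QS R A B).obj) (_ : IsAffine (sch (QS R A B) v)) (p q : v ⟶ x0 R A B)
        (θq : Sec E.obj v →ₗ[Fn v] Sec M.obj v), IsExt q θ θq → IsExt p θ θq) →
      ∃ φ : E ⟶ M, ∀ m, (φ.hom.app (x0 R A B)).app ⊤ m = θ m := by
  obtain ⟨v, p, q, e, hv, hx, hk, huniv⟩ := exists_pairObj (R := R) (A := A) (B := B) (B ⊗[R] A)
    Algebra.TensorProduct.includeLeft Algebra.TensorProduct.includeRight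
  let At : Atlas (QS R A B) :=
    { x₀ := x0 R A B
      aff₀ := aff_x0 R A B
      loc := exists_loc
      n := 1
      w := fun _ => v
      affw := fun _ => hv
      a := fun _ => p
      b := fun _ => q
      pairs := fun z hz p' q' => by
        obtain ⟨t, htp, htq, -⟩ := huniv p' q'
          (Algebra.TensorProduct.lift (cmB q') (cmK p' q') fun _ _ => .all _ _)
          (Algebra.TensorProduct.lift_comp_includeLeft _ _ _) (Algebra.TensorProduct.lift_comp_includeRight' _ _ _)
        refine ⟨⟨PUnit, fun _ => z, fun _ => 𝟙 z, fun _ => hz, ⟨fun _ => ?_, fun y => ⟨PUnit.unit, y, ?_⟩⟩⟩,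
          fun l => ⟨0, t, htp.trans (Category.id_comp _).symm, htq.trans (Category.id_comp _).symm⟩⟩
        · rw [bmap_id]; infer_instance
        · rw [bmap_id]; rfl }
  refine ⟨At, rfl, fun E M θ hθ => ?_⟩
  haveI := hv
  haveI := aff_x0 R A B
  obtain ⟨φ, hφ⟩ := At.exists_hom E.property.1 E.property.2 M.property.1 M.property.2 isFibGrpd_QS (θ := θ)
    fun k θa θb ha hb => isExt_unique E.property.1 E.property.2 p ha (hθ v hv p q θb hb)
  exact ⟨ObjectProperty.homMk φ, hφ⟩

/-- Exactness of invariants. -/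
theorem fixed_of_isCohAffine (ρ : QS R A B ⥤ᵇ YS R A B) (h : StMod.IsCohAffine ρ)
    (M N : Type u) [AddCommGroup M] [Module R M] [Module B M] [IsScalarTower R B M]
    [HopfRep.Comod R A M] [TameAct.IsHopfMod R A B M]
    [AddCommGroup N] [Module R N] [Module B N] [IsScalarTower R B N]
    [HopfRep.Comod R A N] [TameAct.IsHopfMod R A B N] (f : M →ₗ[B] N)
    (hf : Hoch.IsComodHom A (f.restrictScalars R)) (hs : Function.Surjective f) :
    ∀ n ∈ HopfRep.fixedPts R A N, ∃ m ∈ HopfRep.fixedPts R A M, f m = n := by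
  obtain ⟨F, ι, hι, hF⟩ := exists_qcoh_of_hopf R A B M
  obtain ⟨G, κ, hκ, hG⟩ := exists_qcoh_of_hopf R A B N
  obtain ⟨At, -, hAt⟩ := exists_atlas_QS R A B
  let cM := HopfRep.Comod.coact (k := R) (A := A) (V := M)
  let cN := HopfRep.Comod.coact (k := R) (A := A) (V := N)
  let c := (ι.toLinearMap.rTensor A).comp (cM.comp ι.symm.toLinearMap)
  let d := (κ.toLinearMap.rTensor A).comp (cN.comp κ.symm.toLinearMap)
  have hc : IsCoact F.obj c := fun z hz p q m => by
    obtain ⟨m', rfl⟩ := ι.surjective m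
    rw [hF z hz p q m']
    show kap (cmK p q) (resR F.obj q ∘ₗ ι.toLinearMap) (cM m') =
      kap (cmK p q) (resR F.obj q) (ι.toLinearMap.rTensor A (cM (ι.symm (ι m'))))
    rw [LinearEquiv.symm_apply_apply, kap_comp]
  have hd : IsCoact G.obj d := fun z hz p q m => by
    obtain ⟨m', rfl⟩ := κ.surjective m
    rw [hG z hz p q m']
    show kap (cmK p q) (resR G.obj q ∘ₗ κ.toLinearMap) (cN m') =
      kap (cmK p q) (resR G.obj q) (κ.toLinearMap.rTensor A (cN (κ.symm (κ m'))))
    rw [LinearEquiv.symm_apply_apply, kap_comp]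
  let θ : Sec F.obj (x0 R A B) →ₗ[Fn (x0 R A B)] Sec G.obj (x0 R A B) :=
    { toFun := fun m => κ (f (ι.symm m))
      map_add' := fun a b => by simp only [map_add]
      map_smul' := fun r m => by
        obtain ⟨b, rfl⟩ := (e0 R A B).surjective r
        obtain ⟨m', rfl⟩ := ι.surjective m
        rw [← hι, LinearEquiv.symm_apply_apply, map_smul, hκ, RingHom.id_apply, LinearEquiv.symm_apply_apply] }
  obtain ⟨φ, hφ⟩ := hAt F G θ fun v hv p q θq hq m => by
    obtain ⟨m', rfl⟩ := ι.surjective m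
    rw [hF v hv p q m']
    show θq (mv cM (cmK p q) (resR F.obj q ∘ₗ ι.toLinearMap) m') = G.obj.mapTop p (κ (f (ι.symm (ι m'))))
    rw [LinearEquiv.symm_apply_apply, hG v hv p q (f m')]
    refine (mv_map cM (cmK p q) (AlgHom.id R (Fu v)) θq.toAddMonoidHom (fun r x => θq.map_smul r x)
      (resR F.obj q ∘ₗ ι.toLinearMap) ((resR G.obj q ∘ₗ κ.toLinearMap) ∘ₗ f.restrictScalars R) (fun a => ?_) m').trans ?_
    · refine (hq (ι a)).trans ?_
      show G.obj.mapTop q (κ (f (ι.symm (ι a)))) = _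
      rw [LinearEquiv.symm_apply_apply]
      rfl
    · show kap ((AlgHom.id R (Fu v)).comp (cmK p q)) _ (cM m') = kap (cmK p q) _ (cN (f m'))
      rw [AlgHom.id_comp, show cN (f m') = (f.restrictScalars R).rTensor A (cM m') from LinearMap.congr_fun hf m',
        kap_comp]
  have hsurj : Function.Surjective ((φ.hom.app (x0 R A B)).app ⊤) := fun n => by
    obtain ⟨n', rfl⟩ := κ.surjective n
    obtain ⟨m', rfl⟩ := hs n'
    exact ⟨ι m', (hφ _).trans (congrArg (fun a => κ (f a)) (ι.symm_apply_apply m'))⟩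
  have hu : Mod.IsSurj φ.hom :=
    isSurj_of_chart F.property.1 F.property.2 G.property.1 G.property.2 φ.hom hsurj
  let E₀ : EtOver ((yon (Spec (CommRingCat.of R))).obj (Ysch R A B)) :=
    EtOver.mk ((yon (Spec (CommRingCat.of R))).map (𝟙 (Ysch R A B)))
      ((repWith_yon_map_iff _ _).2 (show Etale (𝟙 (Ysch R A B) : Ysch R A B ⟶ Ysch R A B).left by
        rw [Over.id_left]; infer_instance))
  have hE₀ : etaOf E₀ = eta0 R A B := by
    show (⟨Ysch R A B, (AlgSp.J _).uliftYonedaEquiv ((yon (Spec (CommRingCat.of R))).map (𝟙 (Ysch R A B)))⟩ :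
      (YS R A B).obj) = ⟨Ysch R A B, ⟨𝟙 _⟩⟩
    rw [CategoryTheory.Functor.map_id]
    rfl
  have hsur := h φ hu E₀ (isAffine_Spec _)
  rw [hE₀] at hsur
  intro n hn
  have hn' : d (κ n) = κ n ⊗ₜ[R] (1 : A) := by
    show κ.toLinearMap.rTensor A (cN (κ.symm (κ n))) = _
    rw [LinearEquiv.symm_apply_apply, show cN n = n ⊗ₜ[R] (1 : A) from hn]
    rfl
  obtain ⟨m, hm, hmn⟩ :=
    (surjective_eta_iff ρ F.property.1 F.property.2 G.property.1 G.property.2 hc hd φ.hom).1 hsur (κ n) hn'
  refine ⟨ι.symm m, ?_, κ.injective ((hφ m).symm.trans hmn)⟩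
  show cM (ι.symm m) = ι.symm m ⊗ₜ[R] (1 : A)
  have h' := congrArg (ι.symm.toLinearMap.rTensor A) hm
  rw [LinearMap.rTensor_tmul] at h'
  refine Eq.trans ?_ h'
  show cM (ι.symm m) = ι.symm.toLinearMap.rTensor A (ι.toLinearMap.rTensor A (cM (ι.symm m)))
  rw [← LinearMap.comp_apply, ← LinearMap.rTensor_comp]
  simp

end Groth.L23.QuotGM
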