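import Groth.Agent.L23.QuotGM.Base
import Groth.Agent.L23.RelGen.DD
import Groth.Agent.L23.RelGen.FamQCoh
import Groth.Agent.L23.RelGen.TildeAff
import Groth.Agent.L23.RelGen.PullMod
import Groth.Agent.L16.SectCmp.Basic

/-!
# The quasi-coherent module on the quotient stack of a relative Hopf module
-/

universe u

open CategoryTheory CategoryTheory.Limits AlgebraicGeometry
open scoped TensorProduct

set_option backward.isDefEq.respectTransparency false
set_option backward.isDefEq.respectTransparency.types false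
set_option linter.style.haveILetI false
set_option linter.unusedSectionVars false
set_option linter.unusedVariables false
set_option synthInstance.maxHeartbeats 400000
set_option maxHeartbeats 1000000

noncomputable section

namespace Groth.L23.QuotGM

open StMod Groth.L23.RelGen

theorem pull_id_bijective {X : Scheme.{u}} (M : X.Modules) : Function.Bijective (Groth.L18.Frame.pull (𝟙 X) M ⊤) := by
  let i := (Scheme.Modules.pullbackId X).hom.app M
  have hb : Function.Bijective (i.app ⊤) := ConcreteCategory.bijective_of_isIso (i.app ⊤)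
  refine ⟨fun a b e => ?_, fun n => ⟨i.app ⊤ n, hb.1 (Groth.L16.SectCmp.pullbackId_pull M ⊤ _)⟩⟩
  rw [← Groth.L16.SectCmp.pullbackId_pull M ⊤ a, ← Groth.L16.SectCmp.pullbackId_pull M ⊤ b, e]

variable {R A B : Type u} [CommRing R] [CommRing A] [HopfAlgebra R A] [CommRing B] [Algebra R B]
  [HopfRep.Comod R A B] [GLin.IsCoactAlg R A B]

/-- The coordinate map of an object of the slice over the chart. -/
def bsl (s : (Sl (x0 R A B)).obj) : sch (Sl (x0 R A B)) s ⟶ Spec (CommRingCat.of B) :=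
  bmap (QS R A B) s.hom

theorem bsl_natural {s' s : (Sl (x0 R A B)).obj} (φ : s' ⟶ s) : bmap (Sl (x0 R A B)) φ ≫ bsl s = bsl s' := by
  show bmap (QS R A B) φ.left ≫ bmap (QS R A B) s.hom = bmap (QS R A B) s'.hom
  rw [← bmap_comp]
  exact congrArg (fun k => bmap (QS R A B) k) (CostructuredArrow.w φ)

/-- A module on the slice with given sections at the chart. -/
structure Start (R A B : Type u) [CommRing R] [CommRing A] [HopfAlgebra R A] [CommRing B] [Algebra R B]
    [HopfRep.Comod R A B] [GLin.IsCoactAlg R A B] (H : Type u) [AddCommGroup H] [Module B H] where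
  /-- the module -/
  G : QCoh (Sl (x0 R A B))
  /-- the sections at the chart -/
  ι : H ≃+ Sec G.obj (slMk (𝟙 (x0 R A B)))
  ι_smul : ∀ (b : B) h, ι (b • h) = (show Fn (slMk (𝟙 (x0 R A B))) from e0 R A B b) • ι h

theorem nonempty_start (H : Type u) [AddCommGroup H] [Module B H] : Nonempty (Start R A B H) := by
  haveI : IsAffine (Spec (CommRingCat.of B)) := inferInstance
  letI : Module Γ(Spec (CommRingCat.of B), ⊤) H :=
    Module.compHom H (e0 R A B).symm.toAlgHom.toRingHom
  obtain ⟨N, hN, ⟨E⟩⟩ := exists_qcoh_sections (Spec (CommRingCat.of B)) H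
  haveI := hN
  let G : QCoh (Sl (x0 R A B)) := ⟨pullMod (bsl (R := R) (A := A) (B := B)) bsl_natural N, isQCoh_pullMod _ _ N⟩
  have he : bsl (slMk (𝟙 (x0 R A B))) = 𝟙 _ := bmap_id _
  have hb : Function.Bijective (Groth.L18.Frame.pull (bsl (slMk (𝟙 (x0 R A B)))) N ⊤) := by
    have key : ∀ (g : Spec (CommRingCat.of B) ⟶ Spec (CommRingCat.of B)), g = 𝟙 _ → Function.Bijective (Groth.L18.Frame.pull g N ⊤) := by
      rintro _ rfl
      exact pull_id_bijective N
    exact key _ he
  refine ⟨⟨G, E.toAddEquiv.trans (AddEquiv.ofBijective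
    (⟨⟨Groth.L18.Frame.pull (bsl (slMk (𝟙 (x0 R A B)))) N ⊤, map_zero _⟩, map_add _⟩ :
      Γ(N, ⊤) →+ Sec G.obj (slMk (𝟙 (x0 R A B)))) hb), fun b h => ?_⟩⟩
  have h1 : b • h = (show Γ(Spec (CommRingCat.of B), ⊤) from e0 R A B b) • h := by
    show b • h = (e0 R A B).symm (e0 R A B b) • h
    rw [AlgEquiv.symm_apply_apply]
  show Groth.L18.Frame.pull (bsl (slMk (𝟙 (x0 R A B)))) N ⊤ (E (b • h)) = _
  rw [h1, map_smul]
  refine (Groth.L18.Frame.pull_smul _ _ _ _).trans ?_
  refine congrArg (fun a : Fn (slMk (𝟙 (x0 R A B))) => a • (show Sec G.obj (slMk (𝟙 (x0 R A B))) from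
    Groth.L18.Frame.pull (bsl (slMk (𝟙 (x0 R A B)))) N ⊤ (E h))) ?_
  show (bsl (slMk (𝟙 (x0 R A B)))).app ⊤ (e0 R A B b) = e0 R A B b
  rw [he]
  rfl

variable {H : Type u} [AddCommGroup H] [Module R H] [Module B H] [IsScalarTower R B H] (St : Start R A B H)

/-- Sections at a pair of an object and a morphism to the chart. -/
def SG (St : Start R A B H) {v : (QS R A B).obj} (p : v ⟶ x0 R A B) : Type u := Sec St.G.obj (slMk p)

scoped instance addSG {v : (QS R A B).obj} (p : v ⟶ x0 R A B) : AddCommGroup (SG St p) :=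
  inferInstanceAs (AddCommGroup (Sec St.G.obj (slMk p)))

scoped instance modSG {v : (QS R A B).obj} (p : v ⟶ x0 R A B) : Module (Fu v) (SG St p) :=
  inferInstanceAs (Module (Fn (slMk p)) (Sec St.G.obj (slMk p)))

scoped instance modRSG {v : (QS R A B).obj} (p : v ⟶ x0 R A B) : Module R (SG St p) :=
  Module.compHom (SG St p) (algebraMap R (Fu v))

theorem tower_SG {v : (QS R A B).obj} (p : v ⟶ x0 R A B) : IsScalarTower R (Fu v) (SG St p) :=
  IsScalarTower.of_algebraMap_smul fun _ _ => rfl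

scoped instance instTowerSG {v : (QS R A B).obj} (p : v ⟶ x0 R A B) : IsScalarTower R (Fu v) (SG St p) :=
  tower_SG St p

/-- Restriction. -/
def resS {v' v : (QS R A B).obj} (j : v' ⟶ v) {p : v ⟶ x0 R A B} {p' : v' ⟶ x0 R A B} (hp : j ≫ p = p') :
    SG St p →+ SG St p' :=
  (topMap St.G.obj (slHom (s' := slMk p') (s := slMk p) j hp)).toAddMonoidHom

theorem resS_smul {v' v : (QS R A B).obj} (j : v' ⟶ v) {p : v ⟶ x0 R A B} {p' : v' ⟶ x0 R A B} (hp : j ≫ p = p')
    (r : Fu v) (m : SG St p) : resS St j hp (r • m) = pullZ j r • resS St j hp m :=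
  St.G.obj.mapTop_smul (slHom (s' := slMk p') (s := slMk p) j hp) r m

/-- The pulled back sections. -/
def qf {v : (QS R A B).obj} (p : v ⟶ x0 R A B) : H →ₗ[R] SG St p where
  toFun h := resS St p (Category.comp_id p) (St.ι h)
  map_add' a b := (congrArg (resS St p (Category.comp_id p)) (map_add St.ι a b)).trans (map_add _ _ _)
  map_smul' r h := by
    have h1 : r • h = algebraMap R B r • h := (algebraMap_smul B r h).symm
    rw [h1, St.ι_smul]
    refine (resS_smul St p (Category.comp_id p) (e0 R A B (algebraMap R B r)) (St.ι h)).trans ?_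
    rw [AlgEquiv.commutes, AlgHom.commutes]
    rfl

theorem qf_smul {v : (QS R A B).obj} (p : v ⟶ x0 R A B) (b : B) (h : H) :
    qf St p (b • h) = cmB p b • qf St p h := by
  show resS St p (Category.comp_id p) (St.ι (b • h)) = _
  rw [St.ι_smul, cmB_apply]
  exact resS_smul St p (Category.comp_id p) (e0 R A B b) (St.ι h)

theorem qf_natural {v' v : (QS R A B).obj} (j : v' ⟶ v) {p : v ⟶ x0 R A B} {p' : v' ⟶ x0 R A B}
    (hp : j ≫ p = p') (h : H) : resS St j hp (qf St p h) = qf St p' h := by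
  refine (mapTop_sl_comp St.G.obj j p hp (Category.comp_id p) ((Category.comp_id _).trans hp) (St.ι h)).trans ?_
  subst hp
  rfl

/-- Semilinear maps agreeing on pulled back sections agree. -/
theorem ext_qf {v w : (QS R A B).obj} (hv : IsAffine (sch (QS R A B) v)) {p : v ⟶ x0 R A B} {q : w ⟶ x0 R A B}
    (φ : Fu v →ₐ[R] Fu w) (L L' : SG St p →+ SG St q)
    (hL : ∀ r m, L (r • m) = φ r • L m) (hL' : ∀ r m, L' (r • m) = φ r • L' m)
    (e : ∀ h, L (qf St p h) = L' (qf St p h)) (m : SG St p) : L m = L' m := by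
  haveI : IsAffine (sch (Sl (x0 R A B)) (slMk p)) := hv
  haveI : IsAffine (sch (Sl (x0 R A B)) (slMk (𝟙 (x0 R A B)))) := aff_x0 R A B
  refine induction_topMap St.G.property.1 St.G.property.2
    (slHom (s' := slMk p) (s := slMk (𝟙 (x0 R A B))) p (Category.comp_id p)) m
    (p := fun m : SG St p => L m = L' m) ((map_zero L).trans (map_zero L').symm) (fun r a => ?_)
    fun a b ha hb => (map_add L a b).trans ((congrArg₂ (· + ·) ha hb).trans (map_add L' a b).symm)
  obtain ⟨h, rfl⟩ := St.ι.surjective a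
  exact ((hL r (qf St p h)).trans (congrArg _ (e h))).trans (hL' r (qf St p h)).symm

/-- Semilinear maps extend to linear maps on pullbacks. -/
theorem exists_ext {v : (QS R A B).obj} (hv : IsAffine (sch (QS R A B) v)) (p q : v ⟶ x0 R A B)
    (f : H →ₗ[R] SG St q) (hf : ∀ b h, f (b • h) = cmB p b • f h) :
    ∃ L : SG St p →ₗ[Fu v] SG St q, ∀ h, L (qf St p h) = f h := by
  haveI : IsAffine (sch (Sl (x0 R A B)) (slMk p)) := hv
  haveI : IsAffine (sch (Sl (x0 R A B)) (slMk (𝟙 (x0 R A B)))) := aff_x0 R A B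
  let φ : slMk p ⟶ slMk (𝟙 (x0 R A B)) := slHom p (Category.comp_id p)
  letI := (fnMap φ).toAlgebra
  letI := Module.compHom (Sec St.G.obj (slMk p)) (fnMap φ)
  haveI : IsScalarTower (Fn (slMk (𝟙 (x0 R A B)))) (Fn (slMk p)) (Sec St.G.obj (slMk p)) :=
    IsScalarTower.of_algebraMap_smul fun _ _ => rfl
  letI : Module (Fn (slMk p)) (SG St q) := modSG St q
  letI : Module (Fn (slMk (𝟙 (x0 R A B)))) (SG St q) := Module.compHom (SG St q) (fnMap φ)
  haveI : IsScalarTower (Fn (slMk (𝟙 (x0 R A B)))) (Fn (slMk p)) (SG St q) :=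
    IsScalarTower.of_algebraMap_smul fun _ _ => rfl
  have hb := isBaseChange_topMap St.G.property.1 St.G.property.2 φ
  let g : Sec St.G.obj (slMk (𝟙 (x0 R A B))) →ₗ[Fn (slMk (𝟙 (x0 R A B)))] SG St q :=
    { toFun := fun m => f (St.ι.symm m)
      map_add' := fun a b => by rw [map_add, map_add]
      map_smul' := fun r m => by
        obtain ⟨b, rfl⟩ := (e0 R A B).surjective r
        obtain ⟨h, rfl⟩ := St.ι.surjective m
        show f (St.ι.symm ((show Fn (slMk (𝟙 (x0 R A B))) from e0 R A B b) • St.ι h)) = _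
        rw [← St.ι_smul, AddEquiv.symm_apply_apply, hf, cmB_apply]
        simp only [AddEquiv.symm_apply_apply]
        rfl }
  refine ⟨hb.lift g, fun h => ?_⟩
  refine (hb.lift_eq g (St.ι h)).trans ?_
  show f (St.ι.symm (St.ι h)) = f h
  rw [AddEquiv.symm_apply_apply]

variable [HopfRep.Comod R A H] [TameAct.IsHopfMod R A B H]

/-- The moved pullback. -/
abbrev mvq {v : (QS R A B).obj} (p q : v ⟶ x0 R A B) : H →ₗ[R] SG St q :=
  mv (HopfRep.Comod.coact (k := R) (A := A)) (cmK p q) (qf St q)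

theorem mvq_smul {v : (QS R A B).obj} (p q : v ⟶ x0 R A B) (b : B) (h : H) :
    mvq St p q (b • h) = cmB p b • mvq St p q h := by
  rw [cmB_eq p q]
  exact mv_smul (cmB q) (cmK p q) (qf St q) (qf_smul St q) b h

/-- The identifications. -/
def TT {v : (QS R A B).obj} (hv : IsAffine (sch (QS R A B) v)) (p q : v ⟶ x0 R A B) : SG St p →ₗ[Fu v] SG St q :=
  (exists_ext St hv p q (mvq St p q) (mvq_smul St p q)).choose

theorem TT_qf {v : (QS R A B).obj} (hv : IsAffine (sch (QS R A B) v)) (p q : v ⟶ x0 R A B) (h : H) :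
    TT St hv p q (qf St p h) = mvq St p q h :=
  (exists_ext St hv p q (mvq St p q) (mvq_smul St p q)).choose_spec h

theorem TT_self {v : (QS R A B).obj} (hv : IsAffine (sch (QS R A B) v)) (p : v ⟶ x0 R A B) (m : SG St p) :
    TT St hv p p m = m := by
  refine ext_qf St hv (AlgHom.id R (Fu v)) (TT St hv p p).toAddMonoidHom (AddMonoidHom.id _)
    (fun r m => (TT St hv p p).map_smul r m) (fun r m => rfl) (fun h => ?_) m
  refine (TT_qf St hv p p h).trans ?_
  show mv _ (cmK p p) (qf St p) h = qf St p h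
  rw [cmK_self]
  exact mv_one _ (HopfRep.Comod.counit_comp (k := R) (A := A) (V := H)) (qf St p) h

theorem TT_comp {v : (QS R A B).obj} (hv : IsAffine (sch (QS R A B) v)) (p q r : v ⟶ x0 R A B) (m : SG St p) :
    TT St hv q r (TT St hv p q m) = TT St hv p r m := by
  refine ext_qf St hv (AlgHom.id R (Fu v)) ((TT St hv q r).comp (TT St hv p q)).toAddMonoidHom
    (TT St hv p r).toAddMonoidHom
    (fun a m => ((TT St hv q r).comp (TT St hv p q)).map_smul a m) (fun a m => (TT St hv p r).map_smul a m)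
    (fun h => ?_) m
  refine (congrArg (TT St hv q r) (TT_qf St hv p q h)).trans (Eq.trans ?_ (TT_qf St hv p r h).symm)
  refine (mv_map _ (cmK p q) (AlgHom.id R (Fu v)) (TT St hv q r).toAddMonoidHom
    (fun a m => (TT St hv q r).map_smul a m) (qf St q) (mvq St q r) (TT_qf St hv q r) h).trans ?_
  show mv _ ((AlgHom.id R (Fu v)).comp (cmK p q)) (mv _ (cmK q r) (qf St r)) h = mv _ (cmK p r) (qf St r) h
  rw [AlgHom.id_comp, mv_mv _ (HopfRep.Comod.coassoc (k := R) (A := A) (V := H)), cmK_comp p q r]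

theorem TT_natural {v' v : (QS R A B).obj} (hv' : IsAffine (sch (QS R A B) v')) (hv : IsAffine (sch (QS R A B) v))
    (j : v' ⟶ v) {p q : v ⟶ x0 R A B} {p' q' : v' ⟶ x0 R A B} (hp : j ≫ p = p') (hq : j ≫ q = q') (m : SG St p) :
    TT St hv' p' q' (resS St j hp m) = resS St j hq (TT St hv p q m) := by
  refine ext_qf St hv (pullZ j) ((TT St hv' p' q').toAddMonoidHom.comp (resS St j hp))
    ((resS St j hq).comp (TT St hv p q).toAddMonoidHom) (fun a m => ?_) (fun a m => ?_) (fun h => ?_) m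
  · exact (congrArg (TT St hv' p' q') (resS_smul St j hp a m)).trans ((TT St hv' p' q').map_smul _ _)
  · exact (congrArg (resS St j hq) ((TT St hv p q).map_smul a m)).trans (resS_smul St j hq _ _)
  show TT St hv' p' q' (resS St j hp (qf St p h)) = resS St j hq (TT St hv p q (qf St p h))
  rw [qf_natural, TT_qf, TT_qf]
  refine Eq.trans ?_ (mv_map _ (cmK p q) (pullZ j) (resS St j hq) (resS_smul St j hq) (qf St q) (qf St q')
    (qf_natural St j hq) h).symm
  subst hp hq
  show mv _ (cmK (j ≫ p) (j ≫ q)) (qf St (j ≫ q)) h = _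
  rw [cmK_natural]

variable [Module.Flat R A] [Algebra.FinitePresentation R A]

/-- The descent datum. -/
def ddH : DD St.G where
  T {v} hv p q := (TT St hv p q).toAddMonoidHom
  T_smul {v} hv p q r m := (TT St hv p q).map_smul r m
  T_nat {v' v} hv' hv k {p q p' q'} hp hq m := TT_natural St hv' hv k hp hq m
  T_comp {v} hv p q r m := TT_comp St hv p q r m
  T_self {v} hv p m := TT_self St hv p m

/-- The descent datum with local lifts. -/
def pbH : PB (x0 R A B) := ⟨St.G, ddH St, isFibGrpd_QS, aff_x0 R A B, exists_loc⟩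

variable (R A B) in
/-- Every relative Hopf module is the module at the chart of a quasi-coherent module. -/
theorem exists_qcoh_of_hopf (H : Type u) [AddCommGroup H] [Module R H] [Module B H] [IsScalarTower R B H]
    [HopfRep.Comod R A H] [TameAct.IsHopfMod R A B H] :
    ∃ (F : QCoh (QS R A B)) (ι : H ≃ₗ[R] Sec F.obj (x0 R A B)), (∀ b h, ι (b • h) = e0 R A B b • ι h) ∧
      ∀ (z : (QS R A B).obj) (_ : IsAffine (sch (QS R A B) z)) (p q : z ⟶ x0 R A B) (h : H),
        F.obj.mapTop p (ι h) =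
          mv (HopfRep.Comod.coact (k := R) (A := A)) (cmK p q) (resR F.obj q ∘ₗ ι.toLinearMap) h := by
  obtain ⟨St⟩ := nonempty_start (R := R) (A := A) (B := B) H
  let P := pbH St
  let F := P.toQCoh
  have hb := PB.evG_id_bijective (P := P) (aff_x0 R A B) (𝟙 (x0 R A B))
  let ev : Sec F.obj (x0 R A B) ≃+ Sec St.G.obj (slMk (𝟙 (x0 R A B))) :=
    AddEquiv.ofBijective (⟨⟨P.evG (aff_x0 R A B) (𝟙 _) (𝟙 _), by rw [PB.evG, map_zero]; rfl⟩, P.evG_add _ _ _⟩ :
      Sec F.obj (x0 R A B) →+ Sec St.G.obj (slMk (𝟙 (x0 R A B)))) hb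
  let ι₀ : H ≃+ Sec F.obj (x0 R A B) := St.ι.trans ev.symm
  have hev : ∀ h, P.evG (aff_x0 R A B) (𝟙 _) (𝟙 _) (ι₀ h) = St.ι h := fun h => ev.apply_symm_apply _
  have hsmul : ∀ b h, ι₀ (b • h) = e0 R A B b • ι₀ h := fun b h => hb.1 <| by
    rw [hev, St.ι_smul, PB.evG_smul, hev]
    refine congrArg (fun a : Fn (slMk (𝟙 (x0 R A B))) => a • St.ι h) ?_
    show e0 R A B b = fnMap (𝟙 (x0 R A B)) (e0 R A B b)
    rw [fnMap, bmap_id, Scheme.Hom.id_appTop]
    rfl
  let ι : H ≃ₗ[R] Sec F.obj (x0 R A B) :=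
    { ι₀ with
      map_smul' := fun r h => by
        show ι₀ (r • h) = r • ι₀ h
        rw [← algebraMap_smul B r h, hsmul, AlgEquiv.commutes]
        rfl }
  refine ⟨F, ι, hsmul, fun z hz p q h => ?_⟩
  have hval : ∀ p' : z ⟶ x0 R A B, P.evG hz q (𝟙 z) (F.obj.mapTop p' (ι₀ h)) = mvq St p' q h := by
    intro p'
    refine (PB.evG_mapTop (P := P) p' hz q (𝟙 z) (ι₀ h)).trans ?_
    rw [Category.id_comp, ← P.evG_tw hz p' q p']
    rw [← P.evG_map hz (aff_x0 R A B) p' (p := 𝟙 _) (α := 𝟙 _) (Category.comp_id p') (Category.comp_id p') (ι₀ h),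
      hev]
    exact TT_qf St hz p' q h
  have hq : ∀ h, P.evG hz q (𝟙 z) (F.obj.mapTop q (ι₀ h)) = qf St q h := by
    intro h
    refine (PB.evG_mapTop (P := P) q hz q (𝟙 z) (ι₀ h)).trans ?_
    rw [Category.id_comp,
      ← P.evG_map hz (aff_x0 R A B) q (p := 𝟙 _) (α := 𝟙 _) (Category.comp_id q) (Category.comp_id q) (ι₀ h), hev]
    rfl
  refine (PB.evG_id_bijective (P := P) hz q).1 ((hval p).trans ?_)
  let g : Sec F.obj z →+ SG St q := ⟨⟨P.evG hz q (𝟙 z), by rw [PB.evG, map_zero]; rfl⟩, P.evG_add _ _ _⟩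
  have hg : ∀ (r : Fu z) (m : Sec F.obj z), g (r • m) = AlgHom.id R (Fu z) r • g m := fun r m => by
    refine (P.evG_smul hz q (𝟙 z) r m).trans ?_
    refine congrArg (fun a : Fu z => a • g m) ?_
    show fnMap (𝟙 z) r = r
    rw [fnMap, bmap_id, Scheme.Hom.id_appTop]
    rfl
  exact (mv_map _ (cmK p q) (AlgHom.id R (Fu z)) g hg (resR F.obj q ∘ₗ ι.toLinearMap) (qf St q) hq h).symm

end Groth.L23.QuotGM
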