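import Groth.Prelude.Def_CoactBr
import Mathlib.AlgebraicGeometry.GammaSpecAdjunction

/-!
# Points of affine schemes over an affine base, on global functions
-/

universe u

open CategoryTheory MonoidalCategory CartesianMonoidalCategory AlgebraicGeometry Opposite MonObj GrpObj
open scoped TensorProduct

set_option backward.isDefEq.respectTransparency false
set_option backward.isDefEq.respectTransparency.types false
set_option linter.style.haveILetI false
set_option linter.unusedSectionVars false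
set_option linter.unusedVariables false

set_option synthInstance.maxHeartbeats 400000
set_option maxHeartbeats 1000000

noncomputable section

namespace Groth.L23.QuotGM

open CoactBr

variable {R : Type u} [CommRing R]

/-- Functions on a scheme over `Spec R` form an algebra. -/
scoped instance algΓ (T : Over (Spec (CommRingCat.of R))) : Algebra R Γ(T.left, ⊤) :=
  ((Scheme.ΓSpecIso (CommRingCat.of R)).inv ≫ T.hom.appTop).hom.toAlgebra

theorem algebraMap_Γ (T : Over (Spec (CommRingCat.of R))) (r : R) :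
    algebraMap R Γ(T.left, ⊤) r = T.hom.appTop ((Scheme.ΓSpecIso (CommRingCat.of R)).inv r) := rfl

variable {B : Type u} [CommRing B] [Algebra R B]

theorem sp_hom : (sp R B).hom = Spec.map (CommRingCat.ofHom (algebraMap R B)) := rfl

/-- The comorphism of a point. -/
def cm {T : Over (Spec (CommRingCat.of R))} (g : T ⟶ sp R B) : B →ₐ[R] Γ(T.left, ⊤) where
  toRingHom := ((Scheme.ΓSpecIso (CommRingCat.of B)).inv ≫ g.left.appTop).hom
  commutes' r := by
    have h : (CommRingCat.ofHom (algebraMap R B)) ≫ (Scheme.ΓSpecIso (CommRingCat.of B)).inv =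
        (Scheme.ΓSpecIso (CommRingCat.of R)).inv ≫ (sp R B).hom.appTop :=
      Scheme.ΓSpecIso_inv_naturality _
    have hw : (sp R B).hom.appTop ≫ g.left.appTop = T.hom.appTop := by
      rw [← Scheme.Hom.comp_appTop, Over.w g]
    show g.left.appTop ((Scheme.ΓSpecIso (CommRingCat.of B)).inv (algebraMap R B r)) = _
    rw [algebraMap_Γ, ← hw]
    exact congr(g.left.appTop ($h r))

theorem cm_apply {T : Over (Spec (CommRingCat.of R))} (g : T ⟶ sp R B) (b : B) :
    cm g b = g.left.appTop ((Scheme.ΓSpecIso (CommRingCat.of B)).inv b) := rfl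

/-- The canonical morphism to the spectrum of the functions. -/
def cano (T : Over (Spec (CommRingCat.of R))) : T ⟶ sp R Γ(T.left, ⊤) :=
  Over.homMk T.left.toSpecΓ (by
    have h : CommRingCat.ofHom (algebraMap R Γ(T.left, ⊤)) =
        (Scheme.ΓSpecIso (CommRingCat.of R)).inv ≫ T.hom.appTop := rfl
    show T.left.toSpecΓ ≫ Spec.map (CommRingCat.ofHom (algebraMap R Γ(T.left, ⊤))) = T.hom
    rw [h, Spec.map_comp, ← Category.assoc, ← Scheme.toSpecΓ_naturality, Category.assoc,
      toSpecΓ_SpecMap_ΓSpecIso_inv, Category.comp_id])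

theorem cano_left (T : Over (Spec (CommRingCat.of R))) : (cano T).left = T.left.toSpecΓ := rfl

theorem cm_cano_pt (T : Over (Spec (CommRingCat.of R))) (φ : B →ₐ[R] Γ(T.left, ⊤)) :
    cm (cano T ≫ pt φ) = φ := by
  refine AlgHom.ext fun b => ?_
  rw [cm_apply, Over.comp_left, Scheme.Hom.comp_appTop, cano_left, pt_left, Scheme.toSpecΓ_appTop]
  have h := Scheme.ΓSpecIso_inv_naturality (CommRingCat.ofHom φ.toRingHom)
  show (Scheme.ΓSpecIso Γ(T.left, ⊤)).hom
    ((Spec.map (CommRingCat.ofHom φ.toRingHom)).appTop ((Scheme.ΓSpecIso (CommRingCat.of B)).inv b)) = φ b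
  rw [← show (Scheme.ΓSpecIso Γ(T.left, ⊤)).inv (φ b) =
    (Spec.map (CommRingCat.ofHom φ.toRingHom)).appTop ((Scheme.ΓSpecIso (CommRingCat.of B)).inv b) from congr($h b)]
  exact congr($((Scheme.ΓSpecIso Γ(T.left, ⊤)).inv_hom_id) (φ b))

theorem cano_pt_cm {T : Over (Spec (CommRingCat.of R))} (g : T ⟶ sp R B) : cano T ≫ pt (cm g) = g := by
  apply Over.OverMorphism.ext
  rw [Over.comp_left, cano_left, pt_left]
  have h : CommRingCat.ofHom (cm g).toRingHom =
      (Scheme.ΓSpecIso (CommRingCat.of B)).inv ≫ g.left.appTop := rfl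
  rw [h, Spec.map_comp, ← Category.assoc, ← Scheme.toSpecΓ_naturality, Category.assoc]
  exact (congrArg (fun k => g.left ≫ k) (toSpecΓ_SpecMap_ΓSpecIso_inv (CommRingCat.of B))).trans (Category.comp_id _)

theorem cm_injective {T : Over (Spec (CommRingCat.of R))} {g g' : T ⟶ sp R B} (h : cm g = cm g') : g = g' := by
  rw [← cano_pt_cm g, h, cano_pt_cm]

theorem exists_of_cm (T : Over (Spec (CommRingCat.of R))) (φ : B →ₐ[R] Γ(T.left, ⊤)) :
    ∃ g : T ⟶ sp R B, cm g = φ := ⟨_, cm_cano_pt T φ⟩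

/-- Pullback of functions along a morphism over the base. -/
def pull {T' T : Over (Spec (CommRingCat.of R))} (j : T' ⟶ T) : Γ(T.left, ⊤) →ₐ[R] Γ(T'.left, ⊤) where
  toRingHom := j.left.appTop.hom
  commutes' r := by
    show j.left.appTop (T.hom.appTop _) = T'.hom.appTop _
    rw [← Over.w j, Scheme.Hom.comp_appTop]
    rfl

theorem cm_comp {T' T : Over (Spec (CommRingCat.of R))} (j : T' ⟶ T) (g : T ⟶ sp R B) :
    cm (j ≫ g) = (pull j).comp (cm g) := AlgHom.ext fun b => by
  rw [cm_apply, Over.comp_left, Scheme.Hom.comp_appTop]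
  rfl

variable {A : Type u} [CommRing A]

theorem cm_one [Bialgebra R A] (T : Over (Spec (CommRingCat.of R))) :
    cm (1 : T ⟶ sp R A) = (Algebra.ofId R Γ(T.left, ⊤)).comp (Bialgebra.counitAlgHom R A) := by
  have h : (1 : T ⟶ sp R A) = cano T ≫ (1 : sp R Γ(T.left, ⊤) ⟶ sp R A) := by rw [comp_one]
  rw [h, one_eq_pt, cm_cano_pt]

theorem cm_mul [Bialgebra R A] {T : Over (Spec (CommRingCat.of R))} (g h : T ⟶ sp R A) :
    cm (g * h) = (Algebra.TensorProduct.lift (cm g) (cm h) fun _ _ => .all _ _).comp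
      (Bialgebra.comulAlgHom R A) := by
  have e : g * h = cano T ≫ (pt (cm g) * pt (cm h)) := by rw [comp_mul, cano_pt_cm, cano_pt_cm]
  rw [e, pt_mul_pt, cm_cano_pt]

theorem cm_inv [HopfAlgebra R A] {T : Over (Spec (CommRingCat.of R))} (g : T ⟶ sp R A) :
    cm g⁻¹ = (cm g).comp (HopfAlgebra.antipodeAlgHom R A) := by
  have e : g⁻¹ = cano T ≫ (pt (cm g))⁻¹ := by rw [GrpObj.comp_inv, cano_pt_cm]
  rw [e, pt_inv, cm_cano_pt]

theorem cm_ract [Bialgebra R A] [HopfRep.Comod R A B] [GLin.IsCoactAlg R A B]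
    {T : Over (Spec (CommRingCat.of R))} (x : T ⟶ sp R B) (g : T ⟶ sp R A) :
    cm (lift x g ≫ ract R A B) =
      (Algebra.TensorProduct.lift (cm x) (cm g) fun _ _ => .all _ _).comp (GLin.coactAlgHom R A B) := by
  have e : lift x g ≫ ract R A B = cano T ≫ lift (pt (cm x)) (pt (cm g)) ≫ ract R A B := by
    rw [← Category.assoc, comp_lift, cano_pt_cm, cano_pt_cm]
  rw [e, lift_pt_ract, cm_cano_pt]

/-- The point moved by the inverse, moved back. -/
theorem lift_action_ract [HopfAlgebra R A] [HopfRep.Comod R A B] [GLin.IsCoactAlg R A B]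
    {T : Over (Spec (CommRingCat.of R))} (k : T ⟶ sp R A) (x y : T ⟶ sp R B)
    (e : y = lift k x ≫ (action R A B).act) : x = lift y k ≫ ract R A B := by
  subst e
  show x = lift (lift k x ≫ leftOfRight (ract R A B)) k ≫ ract R A B
  rw [lift_leftOfRight, lift_ract_ract, inv_mul_cancel, lift_one_ract]

/-- Functions on a spectrum. -/
def specEquiv (K : Type u) [CommRing K] [Algebra R K] : K ≃ₐ[R] Γ((sp R K).left, ⊤) :=
  AlgEquiv.ofBijective (cm (𝟙 (sp R K))) (by
    have e : ⇑(cm (𝟙 (sp R K))) = ⇑(Scheme.ΓSpecIso (CommRingCat.of K)).inv := funext fun b => by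
      rw [cm_apply, Over.id_left, Scheme.Hom.id_appTop]
      rfl
    rw [e]
    exact ConcreteCategory.bijective_of_isIso (Scheme.ΓSpecIso (CommRingCat.of K)).inv)

theorem cm_id (K : Type u) [CommRing K] [Algebra R K] :
    cm (𝟙 (sp R K)) = (specEquiv (R := R) K).toAlgHom := rfl

theorem cm_pt {K : Type u} [CommRing K] [Algebra R K] (φ : B →ₐ[R] K) :
    cm (pt φ) = (specEquiv (R := R) K).toAlgHom.comp φ := by
  refine AlgHom.ext fun b => ?_
  rw [cm_apply, pt_left]
  refine (congr($(Scheme.ΓSpecIso_inv_naturality (CommRingCat.ofHom φ.toRingHom)) b)).symm.trans ?_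
  show (Scheme.ΓSpecIso (CommRingCat.of K)).inv (φ b) = cm (𝟙 (sp R K)) (φ b)
  rw [cm_apply, Over.id_left, Scheme.Hom.id_appTop]
  rfl

end Groth.L23.QuotGM
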