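import Groth.Agent.L23.QuotGM.Base
import Groth.Agent.L24.St.QuotDiag
import Groth.Agent.L24.St.AffineDiag
import Groth.Agent.L24.St.QcSep
import Groth.Agent.L24.St.DiagSpace
import Groth.Agent.L23.AffineMor

/-!
# The map to the spectrum of invariants is quasi-compact and quasi-separated
-/

universe u

open CategoryTheory CategoryTheory.Limits MonoidalCategory CartesianMonoidalCategory AlgebraicGeometry

set_option backward.isDefEq.respectTransparency false
set_option backward.isDefEq.respectTransparency.types false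
set_option linter.style.haveILetI false
set_option linter.unusedSectionVars false
set_option linter.unusedVariables false
set_option synthInstance.maxHeartbeats 400000
set_option maxHeartbeats 1000000

noncomputable section

namespace Groth.L23.QuotGM

open Groth.L24.St CoactBr AlgSt Groth.L11.ThetaAff

attribute [local instance] hasIsos_fppf

variable {R A B : Type u} [CommRing R] [CommRing A] [HopfAlgebra R A] [Module.Flat R A]
  [Algebra.FinitePresentation R A] [CommRing B] [Algebra R B] [HopfRep.Comod R A B] [GLin.IsCoactAlg R A B]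
  (ρ : QS R A B ⥤ᵇ YS R A B)

theorem qs_of_sep {S : Scheme.{u}} {F G : AlgSp.Sp S} {f : F ⟶ G} (h : AlgSp.IsSeparatedMor f) :
    AlgSp.IsQuasiSeparatedMor f :=
  Groth.L23.repWith_mono (fun φ (_ : IsClosedImmersion φ) => inferInstanceAs (QuasiCompact φ)) h

theorem qcqs_of_affineMor {S : Scheme.{u}} {F G : AlgSp.Sp S} {f : F ⟶ G} (h : AlgSp.IsAffineMor f) :
    (AlgSp.IsQuasiCompactMor ⊓ AlgSp.IsQuasiSeparatedMor : MorphismProperty (AlgSp.Sp S)) f := by
  have hf := Groth.L23.isAffineMor_iff.1 h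
  exact ⟨Groth.L23.isQuasiCompactMor_of_repWith
      (Groth.L23.repWith_mono (fun φ (_ : IsAffineHom φ) => inferInstanceAs (QuasiCompact φ)) hf),
    qs_of_sep ((Groth.L23.isSeparatedMor_iff hf.1).2
      (Groth.L23.repWith_mono (fun φ (_ : IsAffineHom φ) => inferInstanceAs (IsSeparated φ)) hf))⟩

theorem isAlgStack_YS : IsAlgStack Scheme.fppfPrecoverage (YS R A B) :=
  isAlgStack_of_repByAlgSp ⟨⟨_, AlgSp.IsAlgSpace.yon_obj (Ysch R A B)⟩, _, isEquivOver_id _⟩

theorem comp_quotMap (hρ : IsRho R A B ρ) :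
    BasedFunctor.comp (BasedFunctor.comp (ofOverCat (sp R B)) (quotMap Scheme.fppfPrecoverage (sp R A) (action R A B))) ρ =
      BasedFunctor.comp (ofOverCat (sp R B))
        (ofSpMap ((AlgSp.yon (Spec (CommRingCat.of R))).map (pt (GLin.invariants R A B).val))) :=
  congrArg (BasedFunctor.comp (ofOverCat (sp R B))) hρ

/-- Quasi-compactness. -/
theorem isQuasiCompactMor_rho (hρ : IsRho R A B ρ) : AlgSt.IsQuasiCompactMor Scheme.fppfPrecoverage ρ := by
  haveI := flat_sp R A
  haveI := lfp_sp R A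
  haveI := isAffineHom_sp R A
  intro 𝒵 h𝒵 hq g
  have hM := isAlgStack_YS (R := R) (A := A) (B := B)
  haveI : IsAffine (sp R B).left := isAffine_Spec _
  haveI : IsAffine (Ysch R A B).left := isAffine_Spec _
  haveI : QuasiCompact (pt (GLin.invariants R A B).val).left := inferInstance
  let x := BasedFunctor.comp (ofOverCat (sp R B)) (quotMap Scheme.fppfPrecoverage (sp R A) (action R A B))
  have h1 : RepByAlgSpWith AlgSp.IsQuasiCompactMor (BasedFunctor.comp x ρ) := by
    rw [comp_quotMap ρ hρ]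
    exact (repWith_precomp (ofOverCat_isEquivOver _) _).2
      (repWith_ofSpMap_of_prop pBase_qcMor (AlgSp.IsAlgSpace.yon_obj _) (AlgSp.IsAlgSpace.yon_obj _) _
        (Groth.L23.isQuasiCompactMor_of_repWith ((AlgSp.repWith_yon_map_iff _ _).2 ‹_›)))
  have h2 := (repWith_qcMor_iff (overCat_isFibGrpd (sp R B)) hM.isStack.1 (repWith_rep1 h1)).1 h1 𝒵 h𝒵 hq g
  have h𝒳 := Groth.L09.Artin.isAlgStack_quotSt (action R A B)
  obtain ⟨-, -, hxs⟩ := Groth.L09.Artin.atl_quotSt (action R A B)
  exact isQuasiCompact_of_functor (isAlgStack_fp h𝒵 (isAlgStack_overCat _) hM g _) (isAlgStack_fp h𝒵 h𝒳 hM g _)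
    (f := fpMap (F := g) (G := ρ) (F' := g) (G' := BasedFunctor.comp x ρ) (BasedFunctor.id 𝒵) x (Iso.refl _) (Iso.refl _))
    (isSurjective_legs h𝒵.isStack.1 h𝒵.isStack.1 h𝒳.isStack.1 (overCat_isFibGrpd _) hM.isStack.1 _ _ _ _
      (isSurjective_of_isEquivOver (isEquivOver_id 𝒵)) (isSurjective_of_repWith (overCat_isFibGrpd _) h𝒳.isStack.1 hxs)) h2

theorem comp_toSelf {𝒳 𝒴 : AlgSt.Cat (Spec (CommRingCat.of R))} (φ : 𝒳 ⥤ᵇ 𝒴) :
    BasedFunctor.comp φ (FibCat.toSelf 𝒴) = FibCat.toSelf 𝒳 := by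
  have ext' : ∀ {Φ Ψ : 𝒳 ⥤ᵇ FibCat.selfOver (Over (Spec (CommRingCat.of R)))}, Φ.toFunctor = Ψ.toFunctor → Φ = Ψ := by
    rintro ⟨F, _⟩ ⟨G, _⟩ rfl
    rfl
  exact ext' φ.w

/-- Quasi-separatedness. -/
theorem isQuasiSeparatedMor_rho : AlgSt.IsQuasiSeparatedMor ρ := by
  haveI := flat_sp R A
  haveI := lfp_sp R A
  haveI := isAffineHom_sp R A
  have h𝒳 := Groth.L09.Artin.isAlgStack_quotSt (action R A B)
  obtain ⟨-, hflp, hs⟩ := Groth.L09.Artin.atl_quotSt (action R A B)
  have hdY : ∀ Z : Over (Spec (CommRingCat.of R)), IsAffine Z.left → IsAffineHom (pullback.diagonal Z.hom) := by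
    intro Z hZ
    haveI := hZ
    haveI : IsClosedImmersion (pullback.diagonal Z.hom) := (inferInstance : IsSeparated Z.hom).diagonal_isClosedImmersion
    infer_instance
  have hd : RepByAlgSpWith AlgSp.IsAffineMor (FibCat.diag (FibCat.toSelf (QS R A B))) :=
    diag_affine_of_chart h𝒳.isStack.1 h𝒳.diag (hdY _ (isAffine_Spec _))
      (Groth.L24.St.repWith_mono (fun _ _ _ _ h => h.1) hflp) (Groth.L24.St.repWith_mono (fun _ _ _ _ h => h.2) hflp)
      hs (repWith_quotMap_affine (action R A B))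
  refine isQuasiSeparatedMor_of_comp (g := FibCat.toSelf (YS R A B)) ?_ ?_
  · rw [comp_toSelf]
    exact Groth.L24.St.repWith_mono (fun _ _ _ _ h => qcqs_of_affineMor h) hd
  · refine Groth.L24.St.repWith_mono (fun _ _ _ _ h => qs_of_sep h)
      (separatedDiag_of_rep1 (repWith_rep1 ((repWith_precomp (ofOverCat_isEquivOver (Ysch R A B)) _).1
        (diagonal_repWith_toSelf (R := @IsFinite) ?_ (ofOverCat (Ysch R A B))))))
    haveI : IsAffine (Ysch R A B).left := isAffine_Spec _
    have : IsClosedImmersion (pullback.diagonal (Ysch R A B).hom) := (inferInstance : IsSeparated (Ysch R A B).hom).diagonal_isClosedImmersion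
    exact (inferInstance : IsFinite (pullback.diagonal (Ysch R A B).hom))

end Groth.L23.QuotGM
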